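import Cfsg.Agent.Omega.FrameLE
import Cfsg.Agent.Omega.FrameFF
import Cfsg.Agent.Omega.FrameI
import Cfsg.Agent.Omega.FrameExtra
import Cfsg.Agent.Omega.Quasithin.Rows

/-!
# Project SQT (the S1731 fallback): assembly (MASTER v5.2)

`QK` is the class of the strongly quasithin groups (`m_p ≤ 2` for all odd primes `p`).  `Inputs` lists what is
needed: the landed theorems, and the leaves of the frame for the class `QK`.

* `Inputs.sympl` : groups with `F*(C_G(z))` of symplectic type (S1758, S1759, S1761, S1762, S1763 landed; `one`,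
  `wc`, `eh3` open); it is an input of `n1`, `b`, `a2`;
* `sqt` : the inputs imply `Quasithin.SQT`.
-/

set_option autoImplicit false

namespace Cfsg.Agent.Omega.SQT.Main

open Subgroup Cfsg Cfsg.Agent.Omega.Frame Cfsg.Agent.Omega.FrameExtra

universe u

/-- The class of the strongly quasithin groups. -/
abbrev QK : Cls.{u} := fun G _ => Quasithin.StrQ G

/-- **The inputs of project SQT.** -/
structure Inputs : Prop where
  /-- landed: `StrongEmb.Strong.result` -/
  bender : Bender.{u}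
  /-- landed: `S1758.result` -/
  s1758 : St1758.{u}
  /-- landed: `S1759.result` -/
  s1759 : Exits.St1759.{u}
  /-- landed: `S1761.result` -/
  s1761 : Exits.St1761.{u}
  /-- landed: `S1762.result` -/
  s1762 : Exits.St1762.{u}
  /-- landed: `S1763.result` -/
  s1763 : Exits.St1763.{u}
  /-- `|S| ≤ 16` -/
  one : LeafOne.{u}
  /-- 888 -/
  wc : LeafWC QK.{u}
  /-- 807, 810, 969 -/
  eh3 : LeafEH3 QK.{u}
  /-- 364, 87 -/
  sq1 : FrameI.SQ1.{u}
  /-- N1 (406) -/
  n1 : NodeSympl QK.{u} → FrameLE.NodeN1 QK.{u}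
  /-- II.c, II.d, F4 (252, 629, 36, 816) -/
  multi : FrameFF.LeafMulti QK.{u}
  /-- II.0h1 (337) -/
  h1 : FrameFF.LeafH1 QK.{u}
  /-- II.b (847, 139) -/
  b : NodeSympl QK.{u} → FrameFF.LeafB QK.{u}
  /-- 989 -/
  norm : FrameFF.NormStep QK.{u}
  /-- II.a, `q = 2` (840) -/
  a2 : NodeSympl QK.{u} → FrameFF.LeafA2 QK.{u}
  /-- II.a, `q ≥ 4` (978) -/
  a4 : FrameFF.LeafA4 QK.{u}
  /-- NO-3S (172) -/
  no3s : FrameNOFF.NodeNO3S QK.{u}
  /-- NO-3L (597) -/
  no3l : FrameNOFF.NodeNO3L QK.{u}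

theorem Inputs.sympl (I : Inputs.{u}) : NodeSympl QK.{u} :=
  nodeSympl I.s1758 (nodeExtra I.one I.s1759 I.s1761 I.s1762 I.s1763 I.wc I.eh3)

theorem Inputs.nodeFF (I : Inputs.{u}) : FrameLE.NodeFF QK.{u} :=
  FrameFF.nodeFF I.multi I.h1 (I.b I.sympl) I.norm (I.a2 I.sympl) I.a4

/-- **Project SQT from its inputs.** -/
theorem sqt (I : Inputs.{u}) : Quasithin.SQT.{u} := by
  intro G _ _ _ hna hK hc hr hq
  exact FrameLE.evenHalf I.bender (FrameI.nodeI_of_sq1 I.sq1).toK (I.n1 I.sympl) I.nodeFF I.no3s I.no3l G hna hK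
    hc hr hq

end Cfsg.Agent.Omega.SQT.Main
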