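import Cfsg.Agent.Omega.SQT.RankAbs
import Cfsg.Agent.Omega.FrameMulti
import Cfsg.Agent.Omega.Quasithin.Rows

/-!
# The types of members of mutual pairs in strongly quasithin groups

`G` of characteristic 2 type, `m_3(G) ≤ 2`, `P ∈ P*(S)`, `V = V_P`, `D = C_V(O²(P))`.

* `rank_le_of_act` : if `P` induces `S₃^n` on `(V/D, D)`, then `n ≤ m_3(G)`;
* `natK_le` : `k` natural `SL₂(F)`-factors imply `k ≤ 2`;
* `symK_le` : `k` factors `S_{2^m+1}` imply `k ≤ 2` and `m = 2`;
* `leafWr`, `leafSymWr`, `leafC`, `leafF4` : the leaves of `FrameMulti` for the class `StrQ` from their special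
  cases `k = 2`, `m = 2`.
-/

set_option autoImplicit false

namespace Cfsg.Agent.Omega.SQT.Rank

open Subgroup Cfsg Cfsg.Agent.ZN Cfsg.Agent.Omega.MinPar Cfsg.Agent.Omega.Frame
open Cfsg.Agent.Omega.FrameFF (cv)
open Cfsg.Agent.Omega.FFThm (NatK SymK ActsSL ActsSym)
open Cfsg.Agent.Omega.NatPair (ap ap_mul ap_one ap_inj ap_inv_ap)
open Cfsg.Agent.MinSimple.VModule (oddGen le_normalizer_zl le_normalizer_oddGen o2_le_centralizer_zl)

universe u

/-! ### The abstract step -/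

section act

variable {G : Type u} [Group G] {M : Type*} [Group M]

/-- A partial action of the elements of `P` by elements of `M`. -/
structure PAct (P V : Subgroup G) (Act : G → M → Prop) : Prop where
  one : ∀ g ∈ P, g ∈ centralizer (V : Set G) → Act g 1
  mul : ∀ g ∈ P, ∀ h ∈ P, ∀ A B, Act g A → Act h B → Act (g * h) (A * B)
  inv : ∀ g ∈ P, ∀ A, Act g A → Act g⁻¹ A⁻¹
  uniq : ∀ g ∈ P, ∀ A B, Act g A → Act g B → A = B
  conj : ∀ g ∈ P, ∀ x ∈ P, Act x 1 → Act (g * x * g⁻¹) 1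

variable {P V : Subgroup G} {Act : G → M → Prop}

/-- the elements of `P` which act by elements of `M` -/
def PAct.X (h : PAct P V Act) : Subgroup G where
  carrier := {g | g ∈ P ∧ ∃ A, Act g A}
  one_mem' := ⟨P.one_mem, 1, h.one 1 P.one_mem (one_mem _)⟩
  mul_mem' := by
    rintro a b ⟨ha, A, hA⟩ ⟨hb, B, hB⟩
    exact ⟨P.mul_mem ha hb, A * B, h.mul a ha b hb A B hA hB⟩
  inv_mem' := by
    rintro a ⟨ha, A, hA⟩
    exact ⟨P.inv_mem ha, A⁻¹, h.inv a ha A hA⟩

theorem PAct.exists_hom (h : PAct P V Act) : ∃ φ : h.X →* M, ∀ g : h.X, Act g (φ g) := by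
  classical
  refine ⟨{ toFun := fun g => g.2.2.choose, map_one' := ?_, map_mul' := ?_ }, fun g => g.2.2.choose_spec⟩
  · exact h.uniq 1 P.one_mem _ _ (1 : h.X).2.2.choose_spec (h.one 1 P.one_mem (one_mem _))
  · intro a b
    exact h.uniq _ (a * b).2.1 _ _ (a * b).2.2.choose_spec
      (h.mul a a.2.1 b b.2.1 _ _ a.2.2.choose_spec b.2.2.choose_spec)

variable [Finite G]

/-- If `P ∈ P*(S)` induces `S₃^n` on `V_P`, then `n ≤ m_3(G)`. -/
theorem rank_le_of_act (hc : IsCharacteristicTwoType G) (S : Sylow 2 G) {P : Subgroup G}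
    (hP : IsParS (S : Subgroup G) P) (h : PAct P (zl (S : Subgroup G) P) Act) {n m : ℕ}
    (H : (Fin n → Equiv.Perm (Fin 3)) →* M) (hH : Function.Injective H) (hl : ∀ σ, ∃ g ∈ P, Act g (H σ))
    (hn : 1 ≤ n) (hr : PRankLE 3 m G) : n ≤ m := by
  classical
  have h2 : Fact (Nat.Prime 2) := ⟨Nat.prime_two⟩
  obtain ⟨φ, hφ⟩ := h.exists_hom
  have hφv : ∀ (g : h.X) (A : M), Act g A → φ g = A := fun g A hA => h.uniq g g.2.1 _ _ (hφ g) hA
  -- the kernel
  set K : Subgroup G := φ.ker.map h.X.subtype with hK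
  have memK : ∀ g : G, g ∈ K ↔ g ∈ P ∧ Act g 1 := by
    intro g
    constructor
    · rintro ⟨x, hx, rfl⟩
      exact ⟨x.2.1, by rw [← MonoidHom.mem_ker.mp hx]; exact hφ x⟩
    · rintro ⟨hg, h1⟩
      exact ⟨⟨g, hg, 1, h1⟩, MonoidHom.mem_ker.mpr (hφv _ _ h1), rfl⟩
  have hKP : K ≤ P := fun g hg => ((memK g).1 hg).1
  have hKn : P ≤ normalizer (K : Set G) := by
    have key : ∀ g ∈ P, ∀ x ∈ K, g * x * g⁻¹ ∈ K := fun g hg x hx =>
      (memK _).2 ⟨P.mul_mem (P.mul_mem hg (hKP hx)) (P.inv_mem hg), h.conj g hg x (hKP hx) ((memK x).1 hx).2⟩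
    intro g hg
    rw [mem_normalizer_iff]
    intro x
    refine ⟨key g hg x, fun hx => ?_⟩
    have := key g⁻¹ (P.inv_mem hg) _ hx
    rwa [show g⁻¹ * (g * x * g⁻¹) * g⁻¹⁻¹ = x by group] at this
  -- `S ∩ K ≤ O₂(P)`
  have hSK : (S : Subgroup G) ⊓ K ≤ o2 P := by
    rcases hP.toIsPar.sup_eq_or_inf_le S hKP hKn with h1 | h1
    · exfalso
      obtain ⟨c, hc1, hc2, hc3⟩ := RankAbs.exists_cyc
      obtain ⟨g, hg, hA⟩ := hl (fun _ => c)
      -- the image of `g` in `P / K` is a 2-element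
      have h3 : ∃ r : ℕ, g ^ 2 ^ r ∈ K := by
        have hN : (K.subgroupOf P).Normal := by
          constructor
          intro x hx y
          exact mem_subgroupOf.mpr ((mem_normalizer_iff.mp (hKn y.2) _).mp (mem_subgroupOf.mp hx))
        have h4 : (g : G) ∈ ((K ⊔ (S : Subgroup G) : Subgroup G) : Set G) := by
          rw [h1]; exact hg
        rw [coe_mul_of_right_le_normalizer_left _ _ (hP.le.trans hKn)] at h4
        obtain ⟨k, hk, s, hs, hks⟩ := h4
        obtain ⟨r, hr'⟩ := S.isPGroup' ⟨s, hs⟩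
        have hs' : s ^ 2 ^ r = 1 := congrArg Subtype.val hr'
        refine ⟨r, ?_⟩
        have h5 : (QuotientGroup.mk' (K.subgroupOf P)) (⟨g, hg⟩ : P) =
            (QuotientGroup.mk' (K.subgroupOf P)) (⟨s, hP.le hs⟩ : P) := by
          rw [QuotientGroup.mk'_apply, QuotientGroup.mk'_apply, QuotientGroup.eq, mem_subgroupOf]
          change g⁻¹ * s ∈ K
          have h6 : g⁻¹ * s = g⁻¹ * k⁻¹ * g := by
            rw [← hks]
            group
          rw [h6]
          exact (mem_normalizer_iff''.mp (hKn hg) _).mp (K.inv_mem hk)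
        have h6 : (QuotientGroup.mk' (K.subgroupOf P)) ((⟨g, hg⟩ : P) ^ 2 ^ r) = 1 := by
          rw [map_pow, h5, ← map_pow]
          have : (⟨s, hP.le hs⟩ : P) ^ 2 ^ r = 1 := Subtype.ext hs'
          rw [this, map_one]
        have h7 : (⟨g, hg⟩ : P) ^ 2 ^ r ∈ K.subgroupOf P := (QuotientGroup.eq_one_iff _).mp h6
        exact mem_subgroupOf.mp h7
      obtain ⟨r, hr'⟩ := h3
      have h4 := ((memK _).1 hr').2
      set gX : h.X := ⟨g, hg, _, hA⟩ with hgX
      have h5 : φ gX = H (fun _ => c) := hφv gX _ hA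
      have h6 : φ (gX ^ 2 ^ r) = 1 := hφv _ _ h4
      rw [map_pow, h5, ← map_pow] at h6
      have h7 : (fun _ : Fin n => c) ^ 2 ^ r = 1 := hH (by rw [h6, map_one])
      have h8 : c ^ 2 ^ r = 1 := by
        have := congrFun h7 ⟨0, hn⟩
        simpa using this
      have h9 := orderOf_dvd_of_pow_eq_one h8
      rw [hc3] at h9
      have := (Nat.prime_dvd_prime_iff_eq Nat.prime_three Nat.prime_two).mp
        (Nat.prime_three.dvd_of_dvd_pow h9)
      omega
    · exact h1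
  -- 2-elements of `K`
  have hK2 : ∀ x ∈ K, (∃ k, x ^ 2 ^ k = 1) → x ∈ o2 P := by
    intro x hx ⟨k, hk⟩
    set x' : P := ⟨x, hKP hx⟩ with hx'
    have hx2 : IsPGroup 2 (zpowers x') := by
      rw [IsPGroup.iff_card, Nat.card_zpowers]
      have h4 : orderOf x' ∣ 2 ^ k := orderOf_dvd_of_pow_eq_one (Subtype.ext hk)
      obtain ⟨j, -, hj⟩ := (Nat.dvd_prime_pow Nat.prime_two).1 h4
      exact ⟨j, hj⟩
    obtain ⟨T, hT⟩ := hx2.exists_le_sylow
    obtain ⟨g, hg⟩ := MulAction.exists_smul_eq P T (S.subtype hP.le)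
    have h5 : g * x' * g⁻¹ ∈ ((S.subtype hP.le : Sylow 2 P) : Subgroup P) := by
      rw [← hg]
      exact Subgroup.smul_mem_pointwise_smul _ (MulAut.conj g) (T : Subgroup P) (hT (mem_zpowers _))
    have h6 : (g : G) * x * (g : G)⁻¹ ∈ (S : Subgroup G) := h5
    have h7 : (g : G) * x * (g : G)⁻¹ ∈ K := (mem_normalizer_iff.mp (hKn g.2) x).mp hx
    exact (mem_normalizer_iff.mp (MinSimple.VModule.le_normalizer_o2 P g.2) x).mpr (hSK ⟨h6, h7⟩)
  have ho2P : o2 P ≤ P := (hP.isLoc.o2_le S).trans hP.le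
  have ho2K : o2 P ≤ K := by
    intro x hx
    refine (memK x).2 ⟨ho2P hx, h.one x (ho2P hx) ?_⟩
    exact o2_le_centralizer_zl hP.le S.isPGroup' (MinSimple.Basic.not_dvd_relIndex S hP.le)
      (hP.isLoc.char2 S hc) hx
  have hKX : K ≤ h.X := map_subtype_le _
  have hQn : ((o2 P).subgroupOf h.X).Normal := by
    constructor
    intro x hx y
    exact mem_subgroupOf.mpr ((mem_normalizer_iff.mp (MinSimple.VModule.le_normalizer_o2 P y.2.1) _).mp
      (mem_subgroupOf.mp hx))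
  have hQp : IsPGroup 2 ((o2 P).subgroupOf h.X) := by
    intro x
    obtain ⟨k, hk⟩ := (MinSimple.VModule.o2_isPGroup P) ⟨((x : h.X) : G), mem_subgroupOf.mp x.2⟩
    have h1 : ((x : h.X) : G) ^ 2 ^ k = 1 := congrArg Subtype.val hk
    exact ⟨k, Subtype.ext (Subtype.ext h1)⟩
  have memker : ∀ x : h.X, x ∈ φ.ker ↔ (x : G) ∈ K := by
    intro x
    constructor
    · intro hx
      exact ⟨x, hx, rfl⟩
    · rintro ⟨y, hy, hyx⟩
      have : y = x := Subtype.ext hyx
      exact this ▸ hy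
  refine RankAbs.le_of_range (m := m) (Sec.Reduce.prankLE_of_injective h.X.subtype h.X.subtype_injective hr)
    φ H hH ?_ ((o2 P).subgroupOf h.X) hQp ?_ ?_
  · rintro _ ⟨σ, rfl⟩
    obtain ⟨g, hg, hA⟩ := hl σ
    exact ⟨⟨g, hg, _, hA⟩, hφv _ _ hA⟩
  · intro x hx
    exact (memker x).2 (ho2K (mem_subgroupOf.mp hx))
  · intro x hx ⟨k, hk⟩
    exact mem_subgroupOf.mpr (hK2 _ ((memker x).1 hx) ⟨k, congrArg Subtype.val hk⟩)

end act

/-! ### `S₃` in `SL₂(F)` and in symmetric groups -/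

section emb

/-- the matrix of a permutation on the sums of two of three basis vectors -/
def mat (σ : Equiv.Perm (Fin 3)) : Matrix (Fin 2) (Fin 2) (ZMod 2) := fun i j =>
  (if σ j.castSucc = i.castSucc then 1 else 0) + if σ 2 = i.castSucc then 1 else 0

theorem mat_one : mat 1 = 1 := by decide

theorem mat_mul : ∀ σ τ, mat (σ * τ) = mat σ * mat τ := by decide

theorem mat_det : ∀ σ, (mat σ).det = 1 := by decide

theorem mat_inj : ∀ σ, mat σ = 1 → σ = 1 := by decide

/-- `S₃ ≅ SL₂(2)` -/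
def toSL : Equiv.Perm (Fin 3) →* Matrix.SpecialLinearGroup (Fin 2) (ZMod 2) where
  toFun σ := ⟨mat σ, mat_det σ⟩
  map_one' := Subtype.ext mat_one
  map_mul' σ τ := Subtype.ext (mat_mul σ τ)

theorem toSL_injective : Function.Injective toSL := by
  rw [injective_iff_map_eq_one]
  intro σ hσ
  exact mat_inj σ (congrArg Subtype.val hσ)

/-- `S₃^k → SL₂(F)^k` -/
noncomputable def toSLK (F : Type*) [Field F] [CharP F 2] (k : ℕ) :
    (Fin k → Equiv.Perm (Fin 3)) →* (Fin k → Matrix.SpecialLinearGroup (Fin 2) F) where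
  toFun σ i := Matrix.SpecialLinearGroup.map (ZMod.castHom (dvd_refl 2) F) (toSL (σ i))
  map_one' := by
    funext i
    simp
  map_mul' σ τ := by
    funext i
    simp

theorem toSLK_injective (F : Type*) [Field F] [CharP F 2] (k : ℕ) : Function.Injective (toSLK F k) := by
  intro σ τ h
  funext i
  apply toSL_injective
  have h1 : Matrix.SpecialLinearGroup.map (ZMod.castHom (dvd_refl 2) F) (toSL (σ i)) =
      Matrix.SpecialLinearGroup.map (ZMod.castHom (dvd_refl 2) F) (toSL (τ i)) := congrFun h i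
  have hinj : Function.Injective (ZMod.castHom (dvd_refl 2) F) := (ZMod.castHom (dvd_refl 2) F).injective
  apply Subtype.ext
  ext a b
  have h2 := congrArg (fun M : Matrix.SpecialLinearGroup (Fin 2) F => M.1 a b) h1
  exact hinj h2

end emb

/-! ### `C_V(O²(P))` -/

section cv

variable {G : Type u} [Group G] {S P : Subgroup G}

theorem conj_mem_zl {g v : G} (hg : g ∈ P) (hv : v ∈ zl S P) : g * v * g⁻¹ ∈ zl S P :=
  (mem_normalizer_iff.mp (le_normalizer_zl S P hg) v).mp hv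

theorem conj_mem_cv {g d : G} (hg : g ∈ P) (hd : d ∈ cv S P) : g * d * g⁻¹ ∈ cv S P := by
  refine mem_inf.mpr ⟨conj_mem_zl hg hd.1, ?_⟩
  rw [mem_centralizer_iff]
  intro x hx
  have h1 : g⁻¹ * x * g ∈ oddGen P :=
    (mem_normalizer_iff''.mp (le_normalizer_oddGen P hg) x).mp hx
  have h2 := mem_centralizer_iff.mp hd.2 _ h1
  calc x * (g * d * g⁻¹) = g * ((g⁻¹ * x * g) * d) * g⁻¹ := by group
    _ = g * d * g⁻¹ * x := by rw [h2]; group

end cv

/-! ### Natural factors -/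

section nat

variable {G : Type u} [Group G] {S P : Subgroup G} {F : Type} [Field F] [CharP F 2] {k : ℕ}

omit [CharP F 2] in
theorem e_inv (h : NatK F S P (zl S P) (cv S P) k) {w : G} (hw : w ∈ zl S P) : h.e w⁻¹ = - h.e w := by
  have h1 : h.e 1 = 0 := (h.ker 1 (one_mem _)).2 (one_mem _)
  have h2 := h.mul w hw w⁻¹ (inv_mem hw)
  rw [mul_inv_cancel, h1] at h2
  exact (neg_eq_of_add_eq_zero_right h2.symm).symm

omit [CharP F 2] in
theorem pAct (h : NatK F S P (zl S P) (cv S P) k) :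
    PAct P (zl S P) (ActsSL h.e (zl S P) (cv S P)) where
  one g hg hc := by
    refine ⟨fun v hv i => ?_, fun d hd => ?_⟩
    · have h1 : g * v * g⁻¹ = v := by
        rw [← mem_centralizer_iff.mp hc v hv, mul_inv_cancel_right]
      rw [h1, Pi.one_apply, ap_one]
    · exact (mem_centralizer_iff.mp hc d hd.1).symm
  mul g hg x hx A B hA hB := by
    refine ⟨fun v hv i => ?_, fun d hd => ?_⟩
    · have h1 : g * x * v * (g * x)⁻¹ = g * (x * v * x⁻¹) * g⁻¹ := by group
      rw [h1, hA.1 _ (conj_mem_zl hx hv), hB.1 v hv, Pi.mul_apply, ap_mul]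
    · rw [mul_assoc, hB.2 d hd, ← mul_assoc, hA.2 d hd, mul_assoc]
  inv g hg A hA := by
    refine ⟨fun v hv i => ?_, fun d hd => ?_⟩
    · have hw := conj_mem_zl (P.inv_mem hg) hv
      have h1 := hA.1 _ hw i
      have h2 : g * (g⁻¹ * v * g⁻¹⁻¹) * g⁻¹ = v := by group
      rw [h2] at h1
      rw [h1, Pi.inv_apply, ap_inv_ap]
    · have h1 := hA.2 d hd
      calc g⁻¹ * d = g⁻¹ * (d * g) * g⁻¹ := by group
        _ = d * g⁻¹ := by rw [← h1]; group
  uniq g hg A B hA hB := by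
    funext i
    apply ap_inj
    intro x
    obtain ⟨v, hv, hx⟩ := h.surj (fun _ => x)
    have h1 := hA.1 v hv i
    rw [hB.1 v hv i, hx] at h1
    exact h1.symm
  conj g hg x hx hA := by
    refine ⟨fun v hv i => ?_, fun d hd => ?_⟩
    · rw [Pi.one_apply, ap_one]
      have hw := conj_mem_zl (P.inv_mem hg) hv
      rw [inv_inv] at hw
      have hxw := conj_mem_zl hx hw
      have hd : x * (g⁻¹ * v * g) * x⁻¹ * (g⁻¹ * v * g)⁻¹ ∈ cv S P := by
        rw [← h.ker _ (mul_mem hxw (inv_mem hw)), h.mul _ hxw _ (inv_mem hw), e_inv h hw]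
        funext i
        have := hA.1 _ hw i
        rw [Pi.one_apply, ap_one] at this
        rw [Pi.add_apply, this, Pi.neg_apply, add_neg_cancel, Pi.zero_apply]
      have hd' := conj_mem_cv hg hd
      have h1 : g * x * g⁻¹ * v * (g * x * g⁻¹)⁻¹ =
          g * (x * (g⁻¹ * v * g) * x⁻¹ * (g⁻¹ * v * g)⁻¹) * g⁻¹ * v := by group
      rw [h1, h.mul _ hd'.1 v hv, (h.ker _ hd'.1).2 hd', zero_add]
    · have h1 := conj_mem_cv (P.inv_mem hg) hd
      rw [inv_inv] at h1
      have h2 := hA.2 _ h1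
      calc g * x * g⁻¹ * d = g * (x * (g⁻¹ * d * g)) * g⁻¹ := by group
        _ = d * (g * x * g⁻¹) := by rw [h2]; group

/-- **`k` natural factors: `k ≤ m_3(G)`.** -/
theorem natK_le [Finite G] (hc : IsCharacteristicTwoType G) (S : Sylow 2 G) {P : Subgroup G}
    (hP : IsParS (S : Subgroup G) P) (h : NatK F S P (zl (S : Subgroup G) P) (cv (S : Subgroup G) P) k) {m : ℕ}
    (hr : PRankLE 3 m G) : k ≤ m := by
  rcases Nat.eq_zero_or_pos k with h0 | h0
  · omega
  · refine rank_le_of_act hc S hP (pAct h) (toSLK F k) (toSLK_injective F k) (fun σ => ?_) h0 hr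
    obtain ⟨g, hg, hA⟩ := h.lift (toSLK F k σ)
    exact ⟨g, hg, hA⟩

end nat

/-! ### Factors `S_{2^m+1}` -/

section sym

variable {G : Type u} [Group G] {S P : Subgroup G} {k m : ℕ}

/-- `g` acts as `τ` and centralises `D` -/
def ActS (h : SymK S P (zl S P) (cv S P) k m) (g : G) (τ : Fin k → Equiv.Perm (Fin (2 ^ m + 1))) : Prop :=
  ActsSym h.e (zl S P) g 1 τ ∧ ∀ d ∈ cv S P, g * d = d * g

theorem e_inv' (h : SymK S P (zl S P) (cv S P) k m) {w : G} (hw : w ∈ zl S P) : h.e w⁻¹ = - h.e w := by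
  have h1 : h.e 1 = 0 := (h.ker 1 (one_mem _)).2 (one_mem _)
  have h2 := h.mul w hw w⁻¹ (inv_mem hw)
  rw [mul_inv_cancel, h1] at h2
  exact (neg_eq_of_add_eq_zero_right h2.symm).symm

theorem pActS (hm : 1 ≤ m) (h : SymK S P (zl S P) (cv S P) k m) : PAct P (zl S P) (ActS h) where
  one g hg hc := by
    refine ⟨fun v hv i x => ?_, fun d hd => ?_⟩
    · have h1 : g * v * g⁻¹ = v := by
        rw [← mem_centralizer_iff.mp hc v hv, mul_inv_cancel_right]
      rw [h1]
      rfl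
    · exact (mem_centralizer_iff.mp hc d hd.1).symm
  mul g hg x hx A B hA hB := by
    refine ⟨fun v hv i y => ?_, fun d hd => ?_⟩
    · have h1 : g * x * v * (g * x)⁻¹ = g * (x * v * x⁻¹) * g⁻¹ := by group
      rw [h1]
      exact (hA.1 _ (conj_mem_zl hx hv) i (B i y)).trans (hB.1 v hv i y)
    · rw [mul_assoc, hB.2 d hd, ← mul_assoc, hA.2 d hd, mul_assoc]
  inv g hg A hA := by
    refine ⟨fun v hv i y => ?_, fun d hd => ?_⟩
    · have hw := conj_mem_zl (P.inv_mem hg) hv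
      have h1 := hA.1 _ hw i ((A i)⁻¹ y)
      have h2 : g * (g⁻¹ * v * g⁻¹⁻¹) * g⁻¹ = v := by group
      have h3 : A i ((A i)⁻¹ y) = y := (A i).apply_symm_apply y
      rw [h2, h3] at h1
      exact h1.symm
    · have h1 := hA.2 d hd
      calc g⁻¹ * d = g⁻¹ * (d * g) * g⁻¹ := by group
        _ = d * g⁻¹ := by rw [← h1]; group
  uniq g hg A B hA hB := by
    funext i
    ext1 y
    by_contra hne
    have h9 : 3 ≤ 2 ^ m + 1 := by
      have : 2 ^ 1 ≤ 2 ^ m := Nat.pow_le_pow_right (by norm_num) hm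
      omega
    obtain ⟨c, hc1, hc2⟩ : ∃ c : Fin (2 ^ m + 1), c ≠ A i y ∧ c ≠ B i y := by
      have h10 : ({A i y, B i y} : Finset (Fin (2 ^ m + 1))).card < Fintype.card (Fin (2 ^ m + 1)) := by
        rw [Fintype.card_fin]
        exact lt_of_le_of_lt (Finset.card_le_two) (by omega)
      obtain ⟨c, hc⟩ := Finset.exists_mem_notMem_of_card_lt_card (s := {A i y, B i y}) (t := Finset.univ)
        (by rwa [Finset.card_univ])
      refine ⟨c, fun h0 => hc.2 ?_, fun h0 => hc.2 ?_⟩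
      · rw [h0]; exact Finset.mem_insert_self _ _
      · rw [h0]; exact Finset.mem_insert_of_mem (Finset.mem_singleton_self _)
    -- the even vector `{A i y, c}`
    obtain ⟨w, hw, hwe⟩ := h.surj (fun _ x => (if x = A i y then 1 else 0) + if x = c then 1 else 0) (by
      intro _
      rw [Finset.sum_add_distrib, Finset.sum_ite_eq', Finset.sum_ite_eq']
      simp only [Finset.mem_univ, if_true]
      decide)
    have hv := conj_mem_zl (P.inv_mem hg) hw
    have h2 : g * (g⁻¹ * w * g⁻¹⁻¹) * g⁻¹ = w := by group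
    have h3 := hA.1 _ hv i y
    have h4 := hB.1 _ hv i y
    rw [h2] at h3 h4
    have h5 : h.e w i (A i y) = h.e w i (B i y) := h3.trans h4.symm
    rw [hwe] at h5
    simp only [if_true, if_neg (Ne.symm hne), if_neg (Ne.symm hc1), if_neg (Ne.symm hc2)] at h5
    simp at h5
  conj g hg x hx hA := by
    refine ⟨fun v hv i y => ?_, fun d hd => ?_⟩
    · have hw := conj_mem_zl (P.inv_mem hg) hv
      rw [inv_inv] at hw
      have hxw := conj_mem_zl hx hw
      have hd : x * (g⁻¹ * v * g) * x⁻¹ * (g⁻¹ * v * g)⁻¹ ∈ cv S P := by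
        rw [← h.ker _ (mul_mem hxw (inv_mem hw)), h.mul _ hxw _ (inv_mem hw), e_inv' h hw]
        funext i y
        have h3 : h.e (x * (g⁻¹ * v * g) * x⁻¹) i y = h.e (g⁻¹ * v * g) i y := hA.1 _ hw i y
        rw [Pi.add_apply, Pi.add_apply, h3, Pi.neg_apply, Pi.neg_apply, add_neg_cancel]
        rfl
      have hd' := conj_mem_cv hg hd
      have h1 : g * x * g⁻¹ * v * (g * x * g⁻¹)⁻¹ =
          g * (x * (g⁻¹ * v * g) * x⁻¹ * (g⁻¹ * v * g)⁻¹) * g⁻¹ * v := by group
      have h4 : h.e (g * x * g⁻¹ * v * (g * x * g⁻¹)⁻¹) = h.e v := by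
        rw [h1, h.mul _ hd'.1 v hv, (h.ker _ hd'.1).2 hd', zero_add]
      rw [h4]
      rfl
    · have h1 := conj_mem_cv (P.inv_mem hg) hd
      rw [inv_inv] at h1
      have h2 := hA.2 _ h1
      calc g * x * g⁻¹ * d = g * (x * (g⁻¹ * d * g)) * g⁻¹ := by group
        _ = d * (g * x * g⁻¹) := by rw [h2]; group

/-- `S₃^k → (S_n)^k` -/
noncomputable def toSym {n : ℕ} (h : 3 ≤ n) (k : ℕ) :
    (Fin k → Equiv.Perm (Fin 3)) →* (Fin k → Equiv.Perm (Fin n)) where
  toFun σ i := Equiv.Perm.viaEmbeddingHom (Fin.castLEEmb h) (σ i)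
  map_one' := by
    funext i
    simp
  map_mul' σ τ := by
    funext i
    simp

theorem toSym_injective {n : ℕ} (h : 3 ≤ n) (k : ℕ) : Function.Injective (toSym h k) := by
  intro σ τ hst
  funext i
  exact Equiv.Perm.viaEmbeddingHom_injective (Fin.castLEEmb h) (congrFun hst i)

/-- `S₃^3 → S_n ≤ (S_n)^k`, `n ≥ 9` -/
noncomputable def toSym3 {n : ℕ} (h : 9 ≤ n) {k : ℕ} (i : Fin k) :
    (Fin 3 → Equiv.Perm (Fin 3)) →* (Fin k → Equiv.Perm (Fin n)) :=
  (MonoidHom.mulSingle (fun _ : Fin k => Equiv.Perm (Fin n)) i).comp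
    ((Equiv.Perm.viaEmbeddingHom (Function.Embedding.trans finProdFinEquiv.toEmbedding
      (Fin.castLEEmb (n := 3 * 3) h))).comp
      ((MulEquiv.toMonoidHom (Equiv.sigmaEquivProd (Fin 3) (Fin 3)).permCongrHom).comp
        (Equiv.Perm.sigmaCongrRightHom (fun _ : Fin 3 => Fin 3))))

theorem toSym3_injective {n : ℕ} (h : 9 ≤ n) {k : ℕ} (i : Fin k) : Function.Injective (toSym3 h i) := by
  refine (Pi.mulSingle_injective i).comp ?_
  refine (Equiv.Perm.viaEmbeddingHom_injective _).comp ?_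
  exact (Equiv.sigmaEquivProd (Fin 3) (Fin 3)).permCongrHom.injective.comp
    Equiv.Perm.sigmaCongrRightHom_injective

/-- **`k` factors `S_{2^m+1}`: `k ≤ m_3(G)`, and `m ≤ 2` if `m_3(G) ≤ 2`.** -/
theorem symK_le [Finite G] (hc : IsCharacteristicTwoType G) (S : Sylow 2 G) {P : Subgroup G}
    (hP : IsParS (S : Subgroup G) P) (h : SymK S P (zl (S : Subgroup G) P) (cv (S : Subgroup G) P) k m)
    (hm : 2 ≤ m) (hr : PRankLE 3 2 G) (hk : 1 ≤ k) : k ≤ 2 ∧ m = 2 := by
  have h3 : 3 ≤ 2 ^ m + 1 := by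
    have : 2 ^ 2 ≤ 2 ^ m := Nat.pow_le_pow_right (by norm_num) hm
    omega
  refine ⟨?_, ?_⟩
  · refine rank_le_of_act hc S hP (pActS (by omega) h) (toSym h3 k) (toSym_injective h3 k) (fun σ => ?_) hk hr
    exact h.lift (toSym h3 k σ)
  · by_contra hne
    have h9 : 9 ≤ 2 ^ m + 1 := by
      have : 2 ^ 3 ≤ 2 ^ m := Nat.pow_le_pow_right (by norm_num) (by omega)
      omega
    have := rank_le_of_act hc S hP (pActS (by omega) h) (toSym3 h9 ⟨0, hk⟩) (toSym3_injective h9 ⟨0, hk⟩)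
      (fun σ => h.lift (toSym3 h9 ⟨0, hk⟩ σ)) (by norm_num) hr
    omega

end sym

end Cfsg.Agent.Omega.SQT.Rank
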