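import Cfsg.Agent.Omega.SQT.Rank
import Cfsg.Agent.Omega.SQT.Main

/-!
# `LeafMulti` in the strongly quasithin case

With `m_3(G) ≤ 2` the types of the members of mutual pairs are: at most two natural factors, at most two factors
`S₅` (`SQT.Rank`).  So the four leaves of `FrameMulti` for `QK` reduce to `Wr2`, `SymWr2`, `C2`, `F42`.
-/

set_option autoImplicit false

namespace Cfsg.Agent.Omega.SQT.Multi

open Subgroup Cfsg Cfsg.Agent.ZN Cfsg.Agent.Omega.MinPar Cfsg.Agent.Omega.Frame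
open Cfsg.Agent.Omega.FrameLE (AllIn)
open Cfsg.Agent.Omega.FrameFF (Free)
open Cfsg.Agent.Omega.FrameMulti
open Cfsg.Agent.Omega.SQT.Main (QK)

universe u

theorem three {G : Type u} [Group G] (h : Quasithin.StrQ G) : PRankLE 3 2 G :=
  h 3 Nat.prime_three (by norm_num)

theorem isNat_le {G : Type u} [Group G] [Finite G] (hG : Ctx G) (hq : Quasithin.StrQ G) {S : Sylow 2 G}
    {P : Subgroup G} (hP : IsParS (S : Subgroup G) P) {k : ℕ} (h : IsNat (S : Subgroup G) P k) : k ≤ 2 := by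
  obtain ⟨F, _, _, _, ⟨N⟩⟩ := h
  exact Rank.natK_le hG.char2 S hP N (three hq)

theorem isSym_le {G : Type u} [Group G] [Finite G] (hG : Ctx G) (hq : Quasithin.StrQ G) {S : Sylow 2 G}
    {P : Subgroup G} (hP : IsParS (S : Subgroup G) P) {k m : ℕ} (hk : 1 ≤ k) (hm : 2 ≤ m)
    (h : IsSym (S : Subgroup G) P k m) : k ≤ 2 ∧ m = 2 := by
  obtain ⟨N⟩ := h
  exact Rank.symK_le hG.char2 S hP N hm (three hq) hk

/-- `LeafWr` for `QK`: exactly two natural factors. -/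
def Wr2 : Prop :=
  ∀ (G : Type u) [Group G] [Finite G], Ctx G → Quasithin.StrQ G → ∀ (S : Sylow 2 G), Full (S : Subgroup G) →
    AllIn (S : Subgroup G) → AllTyped (S : Subgroup G) →
    ∀ (P₁ P₂ : Subgroup G) (x : G), Mutual (S : Subgroup G) P₁ P₂ x →
      IsNat (S : Subgroup G) P₁ 2 → IsKnownSimple' G

/-- `LeafSymWr` for `QK`: exactly two factors `S₅`. -/
def SymWr2 : Prop :=
  ∀ (G : Type u) [Group G] [Finite G], Ctx G → Quasithin.StrQ G → ∀ (S : Sylow 2 G), Full (S : Subgroup G) →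
    AllIn (S : Subgroup G) → AllTyped (S : Subgroup G) →
    ∀ (P₁ P₂ : Subgroup G) (x : G), Mutual (S : Subgroup G) P₁ P₂ x →
      IsSym (S : Subgroup G) P₁ 2 2 → IsKnownSimple' G

/-- `LeafC` for `QK`: one factor `S₅` against one natural factor or `S₅`. -/
def C2 : Prop :=
  ∀ (G : Type u) [Group G] [Finite G], Ctx G → Quasithin.StrQ G → ∀ (S : Sylow 2 G), Full (S : Subgroup G) →
    AllIn (S : Subgroup G) → AllTyped (S : Subgroup G) → NoWr (S : Subgroup G) → SymFree (S : Subgroup G) →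
    ∀ (P₁ P₂ : Subgroup G) (x : G), Mutual (S : Subgroup G) P₁ P₂ x →
      Free (S : Subgroup G) P₁ → Free (S : Subgroup G) P₂ → IsSym (S : Subgroup G) P₁ 1 2 →
        (IsNat (S : Subgroup G) P₂ 1 ∨ IsSym (S : Subgroup G) P₂ 1 2) → IsKnownSimple' G

/-- `LeafF4` for `QK`: the same with `C_V(O²(P)) ≠ 1` for one of the members. -/
def F42 : Prop :=
  ∀ (G : Type u) [Group G] [Finite G], Ctx G → Quasithin.StrQ G → ∀ (S : Sylow 2 G), Full (S : Subgroup G) →
    AllIn (S : Subgroup G) → AllTyped (S : Subgroup G) → NoWr (S : Subgroup G) →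
    ∀ (P₁ P₂ : Subgroup G) (x : G), Mutual (S : Subgroup G) P₁ P₂ x →
      ¬ (Free (S : Subgroup G) P₁ ∧ Free (S : Subgroup G) P₂) → IsSym (S : Subgroup G) P₁ 1 2 →
        (IsNat (S : Subgroup G) P₂ 1 ∨ IsSym (S : Subgroup G) P₂ 1 2) → IsKnownSimple' G

theorem leafWr (h : Wr2.{u}) : LeafWr QK.{u} := by
  intro G _ _ hG hq S hF hA hT P₁ P₂ x hm k hk hN
  have h1 := isNat_le hG hq hm.star₁ hN
  have h2 : k = 2 := by omega
  subst h2
  exact h G hG hq S hF hA hT P₁ P₂ x hm hN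

theorem leafSymWr (h : SymWr2.{u}) : LeafSymWr QK.{u} := by
  intro G _ _ hG hq S hF hA hT P₁ P₂ x hmu k m hk hm hN
  obtain ⟨h1, h2⟩ := isSym_le hG hq hmu.star₁ (by omega) hm hN
  have h3 : k = 2 := by omega
  subst h3 h2
  exact h G hG hq S hF hA hT P₁ P₂ x hmu hN

theorem leafC (h : C2.{u}) : LeafC QK.{u} := by
  intro G _ _ hG hq S hF hA hT hW hS P₁ P₂ x hmu hf1 hf2 m hm hN hor
  obtain ⟨-, h2⟩ := isSym_le hG hq hmu.star₁ le_rfl hm hN
  subst h2
  refine h G hG hq S hF hA hT hW hS P₁ P₂ x hmu hf1 hf2 hN ?_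
  rcases hor with ho | ⟨m', hm', ho⟩
  · exact Or.inl ho
  · obtain ⟨-, h2⟩ := isSym_le hG hq hmu.star₂ le_rfl hm' ho
    subst h2
    exact Or.inr ho

theorem leafF4 (h : F42.{u}) : LeafF4 QK.{u} := by
  intro G _ _ hG hq S hF hA hT hW P₁ P₂ x hmu hf m hm hN hor
  obtain ⟨-, h2⟩ := isSym_le hG hq hmu.star₁ le_rfl hm hN
  subst h2
  refine h G hG hq S hF hA hT hW P₁ P₂ x hmu hf hN ?_
  rcases hor with ho | ⟨m', hm', ho⟩
  · exact Or.inl ho
  · obtain ⟨-, h2⟩ := isSym_le hG hq hmu.star₂ le_rfl hm' ho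
    subst h2
    exact Or.inr ho

/-- **`LeafMulti` for the strongly quasithin groups.** -/
theorem leafMulti (hFF : FFThm.Stmt.{u}) (h1 : Wr2.{u}) (h2 : SymWr2.{u}) (h3 : C2.{u}) (h4 : F42.{u}) :
    FrameFF.LeafMulti QK.{u} :=
  FrameMulti.leafMulti hFF (leafWr h1) (leafSymWr h2) (leafC h3) (leafF4 h4)

end Cfsg.Agent.Omega.SQT.Multi
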