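import Cfsg.Agent.Omega.SQT.NoThree
import Cfsg.Agent.Omega.NOThreeL.RRed.Blk.OneOf

/-!
# Project SQT: symmetric blocks with 3, 5 or 7 letters (helper949)

`Lett V R φ`, `T ≤ R` contains an `R`-conjugate of every 2-subgroup of `R`.

* `Lett.comp` : change of the letters; `exists_rel4` : `T` contains an element which acts as a given permutation `π`,
  `π ^ 4 = 1`, for a suitable numbering of the letters;
* `two3`, `two5` : for three or five letters `C_V(T) ≤ {1, z}`;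
* `four7` : for seven letters `C_V(T)` has at most four elements, and if `T ≤ S ≤ P` and `P` is minimal over `S`, then
  `P` fixes some `z ≠ 1` of `V` fixed by `S` as soon as `C_V(S)` has four elements.
-/

set_option autoImplicit false
set_option linter.unusedSectionVars false

namespace Cfsg.Agent.Omega.SQT.LettQ

open Subgroup Cfsg
open Cfsg.Agent.Omega.KL.TwoS (Rel Lett)
open Cfsg.Agent.Omega.NOThreeL.RRed.Blk (PermS mem_PermS eq_top_of_swap exists_perm)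

universe u v w

variable {G : Type u} [Group G]

section comp

variable {Ω : Type v} {Ω' : Type w} [Fintype Ω] [DecidableEq Ω] [Fintype Ω'] [DecidableEq Ω'] {V R : Subgroup G}
  {φ : Finset Ω → G}

theorem even_map (e : Ω' ≃ Ω) {s : Finset Ω'} : Even (s.map e.toEmbedding).card ↔ Even s.card := by
  rw [Finset.card_map]

/-- **Change of the letters.** -/
theorem comp (L : Lett V R φ) (e : Ω' ≃ Ω) : Lett V R fun s : Finset Ω' => φ (s.map e.toEmbedding) where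
  odd := by rw [Fintype.card_congr e]; exact L.odd
  mul s t := by
    rw [← L.mul]
    congr 1
    ext x
    simp only [Finset.mem_map_equiv, Finset.mem_symmDiff]
  inj s hs h := by
    have h1 := L.inj _ ((even_map e).2 hs) h
    exact Finset.map_eq_empty.1 h1
  mem x := by
    rw [L.mem]
    constructor
    · rintro ⟨s, hs, rfl⟩
      refine ⟨s.map e.symm.toEmbedding, (even_map e.symm).2 hs, ?_⟩
      congr 1
      ext y
      simp only [Finset.mem_map_equiv, Equiv.symm_symm, Equiv.apply_symm_apply]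
    · rintro ⟨s, hs, rfl⟩
      exact ⟨_, (even_map e).2 hs, rfl⟩
  act g hg := by
    obtain ⟨σ, hσ⟩ := L.act g hg
    refine ⟨(e.trans σ).trans e.symm, fun s hs => ?_⟩
    show g * φ (s.map e.toEmbedding) * g⁻¹ = φ ((s.map _).map e.toEmbedding)
    rw [hσ _ ((even_map e).2 hs)]
    congr 1
    ext y
    simp only [Finset.mem_map_equiv, Equiv.symm_trans_apply, Equiv.symm_symm, Equiv.apply_symm_apply]
  all σ := by
    obtain ⟨g, hg, h⟩ := L.all ((e.symm.trans σ).trans e)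
    refine ⟨g, hg, fun s hs => ?_⟩
    show g * φ (s.map e.toEmbedding) * g⁻¹ = φ ((s.map _).map e.toEmbedding)
    rw [h _ ((even_map e).2 hs)]
    congr 1
    ext y
    simp only [Finset.mem_map_equiv, Equiv.symm_trans_apply, Equiv.symm_symm, Equiv.symm_apply_apply]

theorem rel_comp (e : Ω' ≃ Ω) {g : G} {σ : Equiv.Perm Ω} (h : Rel φ g σ) :
    Rel (fun s : Finset Ω' => φ (s.map e.toEmbedding)) g ((e.trans σ).trans e.symm) := by
  intro s hs
  show g * φ (s.map e.toEmbedding) * g⁻¹ = φ ((s.map _).map e.toEmbedding)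
  rw [h _ ((even_map e).2 hs)]
  congr 1
  ext y
  simp only [Finset.mem_map_equiv, Equiv.symm_trans_apply, Equiv.symm_symm, Equiv.apply_symm_apply]

/-- a permutation `σ`, `σ ^ 4 = 1`, is induced by a 2-element -/
theorem exists_two4 [Finite G] {r : G} {σ : Equiv.Perm Ω} (hσ : σ ^ 4 = 1) (hr : Rel φ r σ) :
    ∃ r' ∈ zpowers r, IsPGroup 2 (zpowers r') ∧ Rel φ r' σ := by
  obtain ⟨k, m, ⟨j, hm⟩, hn⟩ := Nat.exists_eq_two_pow_mul_odd (orderOf_pos r).ne'
  refine ⟨r ^ (m * m), pow_mem (mem_zpowers r) _, ?_, ?_⟩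
  · intro x
    refine ⟨k, ?_⟩
    obtain ⟨x, hx⟩ := x
    obtain ⟨i, rfl⟩ := mem_zpowers_iff.1 hx
    apply Subtype.ext
    show ((r ^ (m * m)) ^ i) ^ 2 ^ k = 1
    have h1 : (r ^ (m * m)) ^ 2 ^ k = 1 := by
      rw [← pow_mul, show m * m * 2 ^ k = (2 ^ k * m) * m by ring, ← hn, pow_mul, pow_orderOf_eq_one, one_pow]
    rw [← zpow_natCast, ← zpow_mul, mul_comm i, zpow_mul, zpow_natCast, h1, one_zpow]
  · have h1 := hr.pow (m * m)
    have h2 : σ ^ (m * m) = σ := by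
      rw [hm, show (2 * j + 1) * (2 * j + 1) = 4 * (j * j + j) + 1 by ring, pow_succ, pow_mul, hσ, one_pow, one_mul]
    rwa [h2] at h1

/-- `T` contains a conjugate of every 2-subgroup of `R` -/
def SylR (T R : Subgroup G) : Prop :=
  ∀ Q : Subgroup G, Q ≤ R → IsPGroup 2 Q → ∃ e ∈ R, ∀ q ∈ Q, e * q * e⁻¹ ∈ T

theorem exists_rel4 [Finite G] (L : Lett V R φ) {T : Subgroup G} (hT : SylR T R) {n : ℕ}
    (hn : Fintype.card Ω = n) {π : Equiv.Perm (Fin n)} (hπ : π ^ 4 = 1) :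
    ∃ e : Fin n ≃ Ω, ∃ t ∈ T, Rel (fun s : Finset (Fin n) => φ (s.map e.toEmbedding)) t π := by
  have e := (Fintype.equivFinOfCardEq hn).symm
  have L' := comp L e
  obtain ⟨r, hr, h⟩ := L'.all π
  obtain ⟨r', hr', h2, h'⟩ := exists_two4 hπ h
  have hle : zpowers r' ≤ R := by
    rw [zpowers_le]
    exact (zpowers_le.2 hr) hr'
  obtain ⟨x, hx, h1⟩ := hT _ hle h2
  obtain ⟨σ, hσ⟩ := L.act x hx
  refine ⟨e.trans σ, x * r' * x⁻¹, h1 r' (mem_zpowers r'), fun s hs => ?_⟩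
  show x * r' * x⁻¹ * φ (s.map _) * (x * r' * x⁻¹)⁻¹ = φ ((s.map _).map _)
  have e1 : φ (s.map (e.trans σ).toEmbedding) = x * φ (s.map e.toEmbedding) * x⁻¹ := by
    rw [hσ _ ((even_map e).2 hs), Finset.map_map]
    rfl
  have e2 : φ ((s.map π.toEmbedding).map (e.trans σ).toEmbedding) =
      x * φ ((s.map π.toEmbedding).map e.toEmbedding) * x⁻¹ := by
    rw [hσ _ ((even_map e).2 ((even_map π).2 hs)), Finset.map_map (f := e.toEmbedding)]
    rfl
  have e3 : r' * φ (s.map e.toEmbedding) * r'⁻¹ = φ ((s.map π.toEmbedding).map e.toEmbedding) := h' s hs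
  rw [e1, e2, ← e3]
  group

end comp

/-! ### Three and five letters -/

theorem fix3 : ∀ s : Finset (Fin 3), s.map (Equiv.swap (0 : Fin 3) 1).toEmbedding = s → Even s.card →
    s = ∅ ∨ s = {0, 1} := by decide

/-- `(0 1 2 3)` -/
def c4 (n : ℕ) [NeZero n] : Equiv.Perm (Fin n) := Equiv.swap 0 1 * Equiv.swap 1 2 * Equiv.swap 2 3

theorem fix5 : ∀ s : Finset (Fin 5), s.map (c4 5).toEmbedding = s → Even s.card →
    s = ∅ ∨ s = {0, 1, 2, 3} := by decide

theorem c4_pow5 : (c4 5) ^ 4 = 1 := by decide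

/-- `(0 1 2 3)(4 5)` -/
def p7 : Equiv.Perm (Fin 7) := c4 7 * Equiv.swap 4 5

theorem p7_pow : p7 ^ 4 = 1 := by decide

set_option maxRecDepth 100000 in
theorem fix7 : ∀ s : Finset (Fin 7), s.map p7.toEmbedding = s → Even s.card →
    s = ∅ ∨ s = {0, 1, 2, 3} ∨ s = {4, 5} ∨ s = {0, 1, 2, 3, 4, 5} := by decide +kernel

section fixed

variable {Ω : Type v} [Fintype Ω] [DecidableEq Ω] {V R T : Subgroup G} {φ : Finset Ω → G}

theorem fix_of {Ω' : Type w} [Fintype Ω'] [DecidableEq Ω'] {ψ : Finset Ω' → G} (L : Lett V R ψ) {t : G}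
    {π : Equiv.Perm Ω'} (h : Rel ψ t π) {s : Finset Ω'} (hs : Even s.card) (hx : t * ψ s * t⁻¹ = ψ s) :
    s.map π.toEmbedding = s := by
  rw [h s hs] at hx
  exact L.phi_inj ((even_map π).2 hs) hs hx

/-- **Three or five letters: `C_V(T) ≤ {1, z}`.** -/
theorem two [Finite G] (L : Lett V R φ) (hT : SylR T R) (hn : Fintype.card Ω = 3 ∨ Fintype.card Ω = 5) :
    ∃ z : G, ∀ x ∈ V, (∀ t ∈ T, t * x * t⁻¹ = x) → x = 1 ∨ x = z := by
  rcases hn with hn | hn
  · obtain ⟨e, t, ht, h⟩ := exists_rel4 L hT hn (π := Equiv.swap (0 : Fin 3) 1) (by decide)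
    have L' := comp L e
    refine ⟨φ (({0, 1} : Finset (Fin 3)).map e.toEmbedding), fun x hx hfix => ?_⟩
    obtain ⟨s, hs, rfl⟩ := (L'.mem x).1 hx
    rcases fix3 s (fix_of L' h hs (hfix t ht)) hs with rfl | rfl
    · exact Or.inl L'.phi_empty
    · exact Or.inr rfl
  · obtain ⟨e, t, ht, h⟩ := exists_rel4 L hT hn c4_pow5
    have L' := comp L e
    refine ⟨φ (({0, 1, 2, 3} : Finset (Fin 5)).map e.toEmbedding), fun x hx hfix => ?_⟩
    obtain ⟨s, hs, rfl⟩ := (L'.mem x).1 hx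
    rcases fix5 s (fix_of L' h hs (hfix t ht)) hs with rfl | rfl
    · exact Or.inl L'.phi_empty
    · exact Or.inr rfl

end fixed

/-! ### Seven letters -/

section seven

variable {V R S P Z : Subgroup G} {ψ : Finset (Fin 7) → G}

/-- a transitive group on seven letters with a transposition -/
theorem top_of {H : Subgroup (Equiv.Perm (Fin 7))} (ht : ∀ a : Fin 7, ∃ σ ∈ H, σ 6 = a)
    (hs : ∃ a b : Fin 7, a ≠ b ∧ Equiv.swap a b ∈ H) : H = ⊤ := by
  classical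
  obtain ⟨a, b, hab, h⟩ := hs
  have : Fintype H := Fintype.ofFinite H
  refine Equiv.Perm.subgroup_eq_top_of_swap_mem (τ := Equiv.swap a b) ?_ ?_ h ⟨a, b, hab, rfl⟩
  · rw [Fintype.card_fin]; norm_num
  · have h1 : MulAction.orbit H (6 : Fin 7) = Set.univ := by
      ext x
      simp only [Set.mem_univ, iff_true]
      obtain ⟨σ, hσ, e⟩ := ht x
      exact ⟨⟨σ, hσ⟩, e⟩
    have h2 : (MulAction.orbit H (6 : Fin 7)).ncard ∣ Nat.card H := by
      have := MulAction.card_orbit_mul_card_stabilizer_eq_card_group H (6 : Fin 7)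
      rw [← Nat.card_eq_fintype_card, ← Nat.card_eq_fintype_card, ← Nat.card_eq_fintype_card] at this
      exact ⟨_, by rw [← this]; rfl⟩
    rw [h1, Set.ncard_univ, Nat.card_eq_fintype_card, Nat.card_eq_fintype_card] at h2
    convert h2

set_option maxRecDepth 100000 in
/-- the orbit of the last letter -/
theorem orbit7 : ∀ O : Finset (Fin 7), (6 : Fin 7) ∈ O → O.map p7.toEmbedding = O →
    O = Finset.univ ∨ Oᶜ = {0, 1, 2, 3} ∨ Oᶜ = {4, 5} ∨ Oᶜ = {0, 1, 2, 3, 4, 5} := by decide +kernel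

/-- the three nontrivial fixed sets -/
abbrev A4 : Finset (Fin 7) := {0, 1, 2, 3}
abbrev A2 : Finset (Fin 7) := {4, 5}
abbrev A6 : Finset (Fin 7) := {0, 1, 2, 3, 4, 5}

theorem mem_A6 : ∀ a : Fin 7, a ∈ A6 ↔ a ≠ 6 := by decide

theorem map_A6 {σ : Equiv.Perm (Fin 7)} (h : σ 6 = 6) : A6.map σ.toEmbedding = A6 := by
  ext x
  rw [Finset.mem_map_equiv, mem_A6, mem_A6, not_iff_not]
  rw [Equiv.symm_apply_eq, h]

theorem map_A2 : A2.map (Equiv.swap (0 : Fin 7) 6).toEmbedding = A2 := by decide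

theorem cent_iff {P : Subgroup G} {x : G} {g : G} : g ∈ P ⊓ centralizer ({x} : Set G) ↔ g ∈ P ∧ g * x * g⁻¹ = x := by
  rw [mem_inf, mem_centralizer_singleton_iff, mul_inv_eq_iff_eq_mul]

/-- `C_V(T)` has at most four elements -/
theorem card_le_four7 [Finite G] (L : Lett V R ψ) {t : G} (ht : t ∈ S) (hp : Rel ψ t p7)
    (hZ : Z ≤ V) (hZS : ∀ z ∈ Z, ∀ s ∈ S, s * z * s⁻¹ = z) : Nat.card Z ≤ 4 := by
  classical
  have hfin : (Z : Set G).Finite := Set.toFinite _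
  have h1 : hfin.toFinset ⊆ ({1, ψ A4, ψ A2, ψ A6} : Finset G) := by
    intro z hz
    rw [Set.Finite.mem_toFinset] at hz
    obtain ⟨s, hs, rfl⟩ := (L.mem z).1 (hZ hz)
    rcases fix7 s (fix_of L hp hs (hZS _ hz t ht)) hs with rfl | rfl | rfl | rfl
    · simp [L.phi_empty]
    · simp
    · simp
    · simp
  have h2 := (Finset.card_le_card h1).trans Finset.card_le_four
  rw [← Set.ncard_eq_toFinset_card _ hfin] at h2
  exact h2

theorem exists_fixed7 [Finite G] (L : Lett V R ψ) {t : G} (ht : t ∈ S) (hp : Rel ψ t p7)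
    (hsw : ∃ s ∈ S, ∃ a b : Fin 7, a ≠ b ∧ Rel ψ s (Equiv.swap a b)) (hSP : S ≤ P)
    (hP : ∃ M : Subgroup G, M < P ∧ ∀ K : Subgroup G, S ≤ K → K < P → K ≤ M) (hrel : ∀ g ∈ P, ∃ σ, Rel ψ g σ)
    (hZ : Z ≤ V) (hZS : ∀ z ∈ Z, ∀ s ∈ S, s * z * s⁻¹ = z) (h4 : 4 ≤ Nat.card Z) :
    ∃ x ∈ Z, x ≠ 1 ∧ ∀ g ∈ P, g * x * g⁻¹ = x := by
  classical
  have hall : ∀ z ∈ Z, z = 1 ∨ z = ψ A4 ∨ z = ψ A2 ∨ z = ψ A6 := by
    intro z hz
    obtain ⟨s, hs, rfl⟩ := (L.mem z).1 (hZ hz)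
    rcases fix7 s (fix_of L hp hs (hZS _ hz t ht)) hs with rfl | rfl | rfl | rfl
    · exact Or.inl L.phi_empty
    · exact Or.inr (Or.inl rfl)
    · exact Or.inr (Or.inr (Or.inl rfl))
    · exact Or.inr (Or.inr (Or.inr rfl))
  have hmem : ψ A4 ∈ Z ∧ ψ A2 ∈ Z ∧ ψ A6 ∈ Z := by
    have hfin : (Z : Set G).Finite := Set.toFinite _
    have h1 : hfin.toFinset ⊆ ({1, ψ A4, ψ A2, ψ A6} : Finset G) := by
      intro z hz
      rw [Set.Finite.mem_toFinset] at hz
      simpa using hall z hz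
    have h2 : ({1, ψ A4, ψ A2, ψ A6} : Finset G).card ≤ hfin.toFinset.card := by
      refine Finset.card_le_four.trans ?_
      rw [← Set.ncard_eq_toFinset_card _ hfin]
      exact h4
    have h3 := Finset.eq_of_subset_of_card_le h1 h2
    have h5 : ∀ z ∈ ({1, ψ A4, ψ A2, ψ A6} : Finset G), z ∈ Z := by
      intro z hz
      rw [← h3, Set.Finite.mem_toFinset] at hz
      exact hz
    exact ⟨h5 _ (by simp), h5 _ (by simp), h5 _ (by simp)⟩
  have hne : ∀ s : Finset (Fin 7), Even s.card → s ≠ ∅ → ψ s ≠ 1 := fun s hs h0 h1 => h0 (L.inj s hs h1)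
  by_contra hno
  push Not at hno
  have hmv : ∀ s : Finset (Fin 7), Even s.card → s ≠ ∅ → ψ s ∈ Z → ∃ σ ∈ PermS ψ P, s.map σ.toEmbedding ≠ s := by
    intro s hs h0 hsZ
    obtain ⟨g, hg, h⟩ := hno _ hsZ (hne s hs h0)
    obtain ⟨σ, hσ⟩ := hrel g hg
    refine ⟨σ, ⟨g, hg, hσ⟩, fun h1 => h ?_⟩
    rw [hσ s hs, h1]
  have e4 : Even (A4 : Finset (Fin 7)).card := by decide
  have e2 : Even (A2 : Finset (Fin 7)).card := by decide
  have e6 : Even (A6 : Finset (Fin 7)).card := by decide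
  -- transitivity
  have htr : ∀ a : Fin 7, ∃ σ ∈ PermS ψ P, σ 6 = a := by
    set O : Finset (Fin 7) := Finset.univ.filter fun a => ∃ σ ∈ PermS ψ P, σ 6 = a with hO
    have hmO : ∀ a, a ∈ O ↔ ∃ σ ∈ PermS ψ P, σ 6 = a := fun a => by simp [hO]
    have hinv : ∀ τ ∈ PermS ψ P, O.map τ.toEmbedding = O := by
      intro τ hτ
      ext x
      rw [Finset.mem_map_equiv, hmO, hmO]
      constructor
      · rintro ⟨σ, hσ, e⟩
        refine ⟨τ * σ, mul_mem hτ hσ, ?_⟩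
        rw [Equiv.Perm.mul_apply, e, Equiv.apply_symm_apply]
      · rintro ⟨σ, hσ, e⟩
        refine ⟨τ⁻¹ * σ, mul_mem (inv_mem hτ) hσ, ?_⟩
        rw [Equiv.Perm.mul_apply, e]
        rfl
    have hinv' : ∀ τ ∈ PermS ψ P, (Oᶜ).map τ.toEmbedding = Oᶜ := by
      intro τ hτ
      ext x
      rw [Finset.mem_map_equiv, Finset.mem_compl, Finset.mem_compl, ← Finset.mem_map_equiv, hinv τ hτ]
    have key : ∀ s : Finset (Fin 7), Even s.card → s ≠ ∅ → ψ s ∈ Z → Oᶜ ≠ s := by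
      rintro s hs h0 hsZ rfl
      obtain ⟨σ, hσ, h⟩ := hmv _ hs h0 hsZ
      exact h (hinv' σ hσ)
    rcases orbit7 O ((hmO 6).2 ⟨1, one_mem _, rfl⟩) (hinv p7 ⟨t, hSP ht, hp⟩) with h | h | h | h
    · intro a
      exact (hmO a).1 (by rw [h]; exact Finset.mem_univ a)
    · exact absurd h (key A4 e4 (by decide) hmem.1)
    · exact absurd h (key A2 e2 (by decide) hmem.2.1)
    · exact absurd h (key A6 e6 (by decide) hmem.2.2)
  have htop : PermS ψ P = ⊤ := by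
    obtain ⟨s, hs, a, b, hab, h⟩ := hsw
    exact top_of htr ⟨a, b, hab, s, hSP hs, h⟩
  obtain ⟨M, hMP, hM⟩ := hP
  have hK : ∀ s : Finset (Fin 7), Even s.card → s ≠ ∅ → ψ s ∈ Z → P ⊓ centralizer ({ψ s} : Set G) ≤ M := by
    intro s hs h0 hsZ
    refine hM _ (fun x hx => cent_iff.2 ⟨hSP hx, hZS _ hsZ x hx⟩) (lt_of_le_of_ne inf_le_left fun he => ?_)
    obtain ⟨g, hg, h⟩ := hno _ hsZ (hne s hs h0)
    rw [← he] at hg
    exact h (cent_iff.1 hg).2
  have hMs : ∀ s : Finset (Fin 7), Even s.card → s ≠ ∅ → ψ s ∈ Z → ∀ σ : Equiv.Perm (Fin 7),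
      s.map σ.toEmbedding = s → σ ∈ PermS ψ M := by
    intro s hs h0 hsZ σ hσ
    obtain ⟨k, hk, h⟩ : σ ∈ PermS ψ P := by rw [htop]; exact mem_top σ
    refine ⟨k, hK s hs h0 hsZ (cent_iff.2 ⟨hk, ?_⟩), h⟩
    rw [h s hs, hσ]
  have h6 : ∀ σ : Equiv.Perm (Fin 7), σ 6 = 6 → σ ∈ PermS ψ M := fun σ hσ =>
    hMs A6 e6 (by decide) hmem.2.2 σ (map_A6 hσ)
  have h06 : Equiv.swap (0 : Fin 7) 6 ∈ PermS ψ M := hMs A2 e2 (by decide) hmem.2.1 _ map_A2
  have hx6 : ∀ x : Fin 7, x ≠ 6 → Equiv.swap x 6 ∈ PermS ψ M := by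
    intro x hx
    have h1 : Equiv.swap (0 : Fin 7) x ∈ PermS ψ M :=
      h6 _ (Equiv.swap_apply_of_ne_of_ne (by decide) (Ne.symm hx))
    have h2 : Equiv.swap (Equiv.swap (0 : Fin 7) x 0) (Equiv.swap (0 : Fin 7) x 6) ∈ PermS ψ M := by
      rw [Equiv.swap_apply_apply]
      exact mul_mem (mul_mem h1 h06) (inv_mem h1)
    rwa [Equiv.swap_apply_left, Equiv.swap_apply_of_ne_of_ne (by decide) (Ne.symm hx)] at h2
  have hMtop : PermS ψ M = ⊤ := by
    apply eq_top_of_swap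
    intro x y hxy
    by_cases hx : x = 6
    · rw [hx, Equiv.swap_comm]; exact hx6 y fun h => hxy (hx.trans h.symm)
    by_cases hy : y = 6
    · rw [hy]; exact hx6 x hx
    exact h6 _ (Equiv.swap_apply_of_ne_of_ne (Ne.symm hx) (Ne.symm hy))
  refine hMP.not_ge fun g hg => ?_
  obtain ⟨σ, hσ⟩ := hrel g hg
  obtain ⟨k, hk, hkσ⟩ : σ ∈ PermS ψ M := by rw [hMtop]; exact mem_top σ
  have h1 : Rel ψ (k⁻¹ * g) 1 := by
    have := hkσ.inv.mul hσ
    rwa [inv_mul_cancel] at this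
  have h2 : k⁻¹ * g ∈ M := by
    refine hK A6 e6 (by decide) hmem.2.2 (cent_iff.2 ⟨mul_mem (inv_mem (hMP.le hk)) hg, ?_⟩)
    rw [h1 A6 e6, map_A6 rfl]
  have e1 : g = k * (k⁻¹ * g) := by group
  rw [e1]
  exact mul_mem hk h2

end seven

end Cfsg.Agent.Omega.SQT.LettQ
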