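import Cfsg.Agent.Omega.SQT.NoThree
import Cfsg.Agent.Omega.SQT.LettQ
import Cfsg.Agent.Omega.NOThreeL.RRed.TvFin

/-!
# Project SQT, box R of NO-3L: one class of `𝔽₂`-blocks, `m_3(G) ≤ 2` (helper949)

`m_3(G) ≤ 2`: one block with 3, 5, 7 letters, or two blocks with 3 or 5 letters.  If `V*` is irreducible for `M₀`, then
`|Z| ≤ 2`, or there is one block with 7 letters, `|Z| = 4` and `C_Z(P) ≠ 1` for every `P ∈ P*(S)`.

* `sylR` : `S ∩ E b` is a Sylow subgroup of `E b`;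
* `exists_swap_blocks` : two blocks, `V*` irreducible: `S` interchanges them;
* **`one_seven`** : `|Z| ≥ 4`: one block, with seven letters;
* **`seven_facts`** : then `|Z| = 4`, and every minimal parabolic subgroup centralises some `x ∈ Z#`;
* **`absurd_wide`** : `4 |C_Z(P)| ≤ |Z|` is impossible.
-/

set_option autoImplicit false
set_option linter.unusedSectionVars false

namespace Cfsg.Agent.Omega.SQT.WideS

open Subgroup Cfsg Cfsg.Agent.ZN Cfsg.Agent.Omega.MinPar Cfsg.Agent.Omega.Frame Cfsg.Agent.Omega.FrameNOFF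
open Cfsg.Agent.Omega.SQT.LettQ
open Cfsg.Agent.Omega.KL.TwoS (Rel Lett)
open Cfsg.Agent.Omega.NOThreeL.Merge (MZ)
open Cfsg.Agent.Omega.NOThreeL.RRed
open Cfsg.Agent.Omega.NOThreeL.RRed.Blk
open Cfsg.Agent.Omega.NOThreeL.RRed.TvFin (Full)
open scoped Pointwise

universe u

variable {G : Type u} [Group G] [Finite G] {S : Sylow 2 G} {M V : Subgroup G} {I : Type u} {N E : I → Subgroup G}
  {R₀ : Subgroup G}

theorem sylR (hD : Dec (S : Subgroup G) M V N E R₀) (b : I) : SylR ((S : Subgroup G) ⊓ E b) (E b) :=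
  fun _ hQ h2 => exists_conj_sub S hD.SL (iSup_le hD.EL) hD.iSup_normal (le_iSup E b) (hD.E_normal b) hQ h2

/-- the group which fixes `N b` -/
def KK (M : Subgroup G) (N : I → Subgroup G) (b : I) : Subgroup G := M ⊓ normalizer (N b : Set G)

theorem mem_KK {b : I} {g : G} : g ∈ KK M N b ↔ g ∈ M ∧ MulAut.conj g • N b = N b := by
  unfold KK
  rw [mem_inf]
  refine and_congr_right fun _ => ?_
  rw [mem_normalizer_iff]
  constructor
  · intro h
    ext x
    constructor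
    · rintro ⟨y, hy, rfl⟩
      exact (h y).1 hy
    · intro hx
      refine ⟨g⁻¹ * x * g, ?_, ?_⟩
      · have h1 := (h (g⁻¹ * x * g)).2
        rw [show g * (g⁻¹ * x * g) * g⁻¹ = x by group] at h1
        exact h1 hx
      · show g * (g⁻¹ * x * g) * g⁻¹ = x
        group
  · intro h x
    exact conj_smul h

section twoblocks

variable (hD : Dec (S : Subgroup G) M V N E R₀) {b c : I} (hbc : b ≠ c) (hall : ∀ x, x = b ∨ x = c)
include hD hbc hall

theorem smul_of_not {g : G} (hg : g ∈ M) (h : g ∉ KK M N b) :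
    MulAut.conj g • N b = N c ∧ MulAut.conj g • N c = N b := by
  obtain ⟨d, h1, -⟩ := hD.perm g hg b
  have hd : d = c := by
    rcases hall d with rfl | rfl
    · exact absurd (mem_KK.2 ⟨hg, h1⟩) h
    · rfl
  subst hd
  obtain ⟨e, h2, -⟩ := hD.perm g hg d
  have he : e = b := by
    rcases hall e with rfl | rfl
    · rfl
    · exact absurd (hD.Ninj (smul_left_cancel _ (h2.trans h1.symm))).symm hbc
  subst he
  exact ⟨h1, h2⟩

theorem mul_mem_KK {g k : G} (hg : g ∈ M) (hk : k ∈ M) (h : g ∉ KK M N b) (h' : k ∉ KK M N b) :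
    g * k ∈ KK M N b := by
  refine mem_KK.2 ⟨mul_mem hg hk, ?_⟩
  rw [map_mul, mul_smul, (smul_of_not hD hbc hall hk h').1, (smul_of_not hD hbc hall hg h).2]

/-- if `M` moves the block `N b`, then `S` does -/
theorem exists_swap_blocks (hmv : ∃ g ∈ M, g ∉ KK M N b) : ∃ s ∈ (S : Subgroup G), s ∉ KK M N b := by
  obtain ⟨g, hg, hgK⟩ := hmv
  obtain ⟨k, m, ⟨j, hm⟩, hn⟩ := Nat.exists_eq_two_pow_mul_odd (orderOf_pos g).ne'
  have h2 : IsPGroup 2 (zpowers (g ^ m)) := by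
    intro x
    refine ⟨k, ?_⟩
    obtain ⟨x, hx⟩ := x
    obtain ⟨i, rfl⟩ := mem_zpowers_iff.1 hx
    apply Subtype.ext
    show ((g ^ m) ^ i) ^ 2 ^ k = 1
    have h1 : (g ^ m) ^ 2 ^ k = 1 := by
      rw [← pow_mul, mul_comm m, ← hn, pow_orderOf_eq_one]
    rw [← zpow_natCast, ← zpow_mul, mul_comm i, zpow_mul, zpow_natCast, h1, one_zpow]
  have hmK : g ^ m ∉ KK M N b := by
    intro h
    apply hgK
    have h1 : g * g ∈ KK M N b := mul_mem_KK hD hbc hall hg hg hgK hgK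
    have h3 : g ^ m = (g * g) ^ j * g := by
      rw [hm, pow_succ, pow_mul, sq]
    rw [h3] at h
    exact (Subgroup.mul_mem_cancel_left _ (pow_mem h1 j)).1 h
  have hle : zpowers (g ^ m) ≤ M := by
    rw [zpowers_le]
    exact pow_mem hg m
  obtain ⟨e, he, h4⟩ := exists_conj_sub S hD.SL le_rfl le_normalizer le_rfl le_normalizer hle h2
  have h5 := h4 _ (mem_zpowers _)
  refine ⟨_, (mem_inf.1 h5).1, fun h => hmK ?_⟩
  by_cases heK : e ∈ KK M N b
  · have h6 := mul_mem (mul_mem (inv_mem heK) h) heK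
    rwa [show e⁻¹ * (e * g ^ m * e⁻¹) * e = g ^ m by group] at h6
  · have h7 : e⁻¹ * (e * g ^ m * e⁻¹) ∉ KK M N b := fun h8 =>
      heK (inv_mem_iff.1 ((Subgroup.mul_mem_cancel_right _ h).1 h8))
    have h8 := mul_mem_KK hD hbc hall (mul_mem (inv_mem he) (mem_inf.1 h5).2) he h7 heK
    rwa [show e⁻¹ * (e * g ^ m * e⁻¹) * e = g ^ m by group] at h8

/-- two blocks of 3 or 5 letters interchanged by `S`: `|C_V(S)| ≤ 2` -/
theorem eq_of_two [Finite I] (hR : R₀ = ⊥) {s : G} (hs : s ∈ (S : Subgroup G)) (hsK : s ∉ KK M N b)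
    {z0 : G} (h0 : ∀ x ∈ N b, (∀ t ∈ (S : Subgroup G) ⊓ E b, t * x * t⁻¹ = x) → x = 1 ∨ x = z0)
    {x y : G} (hx : x ∈ V) (hy : y ∈ V) (hxS : ∀ s ∈ (S : Subgroup G), s * x * s⁻¹ = x)
    (hyS : ∀ s ∈ (S : Subgroup G), s * y * s⁻¹ = y) (x1 : x ≠ 1) (y1 : y ≠ 1) : x = y := by
  have key : ∀ x ∈ V, (∀ s ∈ (S : Subgroup G), s * x * s⁻¹ = x) →
      ∃ n, (n = 1 ∨ n = z0) ∧ IsC N R₀ b x n ∧ IsC N R₀ c x (s * n * s⁻¹) := by
    intro x hx hxS
    obtain ⟨n, hn⟩ := hD.ex_comp b hx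
    refine ⟨n, h0 n hn.1 fun t ht => ?_, hn, ?_⟩
    · have h1 := hD.comp_conj (hD.SL (mem_inf.1 ht).1) (Blk.smul_of_mem (hD.EN b (mem_inf.1 ht).2)) hn
      rw [hxS t (mem_inf.1 ht).1] at h1
      exact hD.uniq h1 hn
    · have h1 := hD.comp_conj (hD.SL hs) (smul_of_not hD hbc hall (hD.SL hs) hsK).1 hn
      rwa [hxS s hs] at h1
  have hsup : ∀ x ∈ V, x ∈ ⨆ b, N b := by
    intro x hx
    rwa [← hD.sup, hR, sup_bot_eq] at hx
  have hone : ∀ x ∈ V, IsC N R₀ b x 1 → IsC N R₀ c x (s * 1 * s⁻¹) → x = 1 := by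
    intro x hx h1 h2
    refine hD.ext (hsup x hx) (one_mem _) fun d => ⟨1, ?_, hD.comp_one (one_mem _)⟩
    rw [mul_one, mul_inv_cancel] at h2
    rcases hall d with rfl | rfl
    · exact h1
    · exact h2
  obtain ⟨n, hn, hnb, hnc⟩ := key x hx hxS
  obtain ⟨m, hm, hmb, hmc⟩ := key y hy hyS
  have hn0 : n = z0 := by
    rcases hn with rfl | h
    · exact absurd (hone x hx hnb hnc) x1
    · exact h
  have hm0 : m = z0 := by
    rcases hm with rfl | h
    · exact absurd (hone y hy hmb hmc) y1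
    · exact h
  subst hn0
  subst hm0
  refine hD.ext (hsup x hx) (hsup y hy) fun d => ?_
  rcases hall d with rfl | rfl
  · exact ⟨_, hnb, hmb⟩
  · exact ⟨_, hnc, hmc⟩

end twoblocks

section main

variable [Fintype I] {Om : I → Type u} [∀ i, Fintype (Om i)] [∀ i, DecidableEq (Om i)] {phi : ∀ i, Finset (Om i) → G}

theorem card_le_two {Z : Subgroup G} {z0 : G} (h : ∀ x ∈ Z, x = 1 ∨ x = z0) : Nat.card Z ≤ 2 := by
  classical
  have hfin : (Z : Set G).Finite := Set.toFinite _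
  have h1 : hfin.toFinset ⊆ ({1, z0} : Finset G) := by
    intro z hz
    rw [Set.Finite.mem_toFinset] at hz
    simpa using h z hz
  have h2 := (Finset.card_le_card h1).trans Finset.card_le_two
  rw [← Set.ncard_eq_toFinset_card _ hfin] at h2
  exact h2

/-- one block: `V = N b` -/
theorem eq_of_one (hD : Dec (S : Subgroup G) M V N E ⊥) {b : I} (hI : ∀ x, x = b) : V = N b := by
  refine le_antisymm ?_ (hD.NU b)
  rw [← hD.sup, sup_bot_eq]
  exact iSup_le fun c => by rw [hI c]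

/-- **`|Z| ≥ 4`, `V` irreducible: one block, with seven letters.** -/
theorem one_seven (hr : PRankLE 3 2 G) (F : Full (S : Subgroup G) M V N E ⊥ Om phi) (hne : Nonempty I)
    (hirr : ∀ b, M ≤ normalizer (N b : Set G) → V ≤ N b) {Z : Subgroup G} (hZV : Z ≤ V)
    (hZS : ∀ z ∈ Z, ∀ s ∈ (S : Subgroup G), s * z * s⁻¹ = z) (h4 : 4 ≤ Nat.card Z) :
    (∀ a b : I, a = b) ∧ ∀ b, Fintype.card (Om b) = 7 := by
  classical
  have hD := F.toDec
  obtain ⟨s1, s2, s3⟩ := NoThree.small hr hD F.lett F.three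
  obtain ⟨b⟩ := hne
  by_cases hI : ∀ x, x = b
  · refine ⟨fun x y => (hI x).trans (hI y).symm, fun c => ?_⟩
    rw [hI c]
    have hZN : Z ≤ N b := hZV.trans (eq_of_one hD hI).le
    rcases s3 b with h3 | h5 | h7
    · obtain ⟨z, hz⟩ := two (F.lett b) (sylR hD b) (Or.inl h3)
      have := card_le_two (Z := Z) (z0 := z) fun x hx => hz x (hZN hx) fun t ht => hZS x hx t (mem_inf.1 ht).1
      omega
    · obtain ⟨z, hz⟩ := two (F.lett b) (sylR hD b) (Or.inr h5)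
      have := card_le_two (Z := Z) (z0 := z) fun x hx => hz x (hZN hx) fun t ht => hZS x hx t (mem_inf.1 ht).1
      omega
    · exact h7
  · exfalso
    push Not at hI
    obtain ⟨c, hcb⟩ := hI
    have hall : ∀ x, x = b ∨ x = c := by
      intro x
      by_contra hx
      push Not at hx
      exact s1 b c x hcb.symm hx.1.symm hx.2.symm
    have hmv : ∃ g ∈ M, g ∉ KK M N b := by
      by_contra hno
      push Not at hno
      have h1 : M ≤ normalizer (N b : Set G) := fun g hg => (mem_inf.1 (hno g hg)).2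
      have h2 := hirr b h1
      apply hD.ne c
      rw [eq_bot_iff, ← hD.ind c]
      exact le_inf le_rfl (((hD.NU c).trans h2).trans (hD.N_le_Co hcb.symm))
    obtain ⟨s, hs, hsK⟩ := exists_swap_blocks hD hcb.symm hall hmv
    obtain ⟨z0, hz0⟩ := two (F.lett b) (sylR hD b) (s2 b c hcb.symm)
    have h2 : Nat.card Z ≤ 2 := by
      by_cases hZ1 : ∃ x ∈ Z, x ≠ 1
      · obtain ⟨x, hx, x1⟩ := hZ1
        refine card_le_two (z0 := x) fun y hy => ?_
        by_cases hy1 : y = 1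
        · exact Or.inl hy1
        · exact Or.inr (eq_of_two hD hcb.symm hall rfl hs hsK hz0 (hZV hy) (hZV hx) (hZS y hy) (hZS x hx) hy1 x1)
      · push Not at hZ1
        exact card_le_two (z0 := 1) fun y hy => Or.inl (hZ1 y hy)
    omega

/-- one block with seven letters, `Z ≤ C_V(S)`: `|Z| ≤ 4`, and if `|Z| = 4`, then every minimal parabolic subgroup
centralises some `x ∈ Z#` -/
theorem seven_facts (F : Full (S : Subgroup G) M V N E ⊥ Om phi) {b : I} (hI : ∀ x, x = b)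
    (h7 : Fintype.card (Om b) = 7) {Z : Subgroup G} (hZV : Z ≤ V)
    (hZS : ∀ z ∈ Z, ∀ s ∈ (S : Subgroup G), s * z * s⁻¹ = z) :
    Nat.card Z ≤ 4 ∧ (Nat.card Z = 4 → ∀ P ≤ M, (S : Subgroup G) ≤ P →
      (∃ M : Subgroup G, M < P ∧ ∀ K : Subgroup G, (S : Subgroup G) ≤ K → K < P → K ≤ M) →
      ∃ x ∈ Z, x ≠ 1 ∧ x ∈ centralizer (P : Set G)) := by
  classical
  have hD := F.toDec
  have hZN : Z ≤ N b := hZV.trans (eq_of_one hD hI).le
  obtain ⟨e, t, ht, hrel⟩ := exists_rel4 (F.lett b) (sylR hD b) h7 p7_pow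
  have L' := comp (F.lett b) e
  obtain ⟨s, hs, a, a', haa, hsw⟩ := Blk.exists_swap L' (by rw [Fintype.card_fin]; norm_num) (sylR hD b)
  refine ⟨card_le_four7 (Z := Z) L' (mem_inf.1 ht).1 hrel hZN hZS, fun h4 P hPM hSP hP => ?_⟩
  have hrelP : ∀ g ∈ P, ∃ σ, Rel (fun s : Finset (Fin 7) => phi b (s.map e.toEmbedding)) g σ := by
    intro g hg
    obtain ⟨c, h1, -⟩ := hD.perm g (hPM hg) b
    rw [hI c] at h1
    obtain ⟨σ, hσ⟩ := F.rel_of_fix (hPM hg) h1
    exact ⟨_, rel_comp e hσ⟩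
  obtain ⟨x, hx, x1, hxP⟩ := exists_fixed7 (Z := Z) L' (mem_inf.1 ht).1 hrel
    ⟨s, (mem_inf.1 hs).1, a, a', haa, hsw⟩ hSP hP hrelP hZN hZS h4.ge
  refine ⟨x, hx, x1, ?_⟩
  rw [mem_centralizer_iff]
  intro g hg
  have := hxP g hg
  rwa [mul_inv_eq_iff_eq_mul] at this

/-- **`4 |C_Z(P)| ≤ |Z|` is impossible** for a group `Z ≤ C_V(S)`. -/
theorem absurd_wide (hr : PRankLE 3 2 G) (F : Full (S : Subgroup G) M V N E ⊥ Om phi) (hne : Nonempty I)
    (hirr : ∀ b, M ≤ normalizer (N b : Set G) → V ≤ N b) {Z P : Subgroup G} (hZV : Z ≤ V)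
    (hZS : ∀ z ∈ Z, ∀ s ∈ (S : Subgroup G), s * z * s⁻¹ = z) (hPM : P ≤ M) (hSP : (S : Subgroup G) ≤ P)
    (hP : ∃ M : Subgroup G, M < P ∧ ∀ K : Subgroup G, (S : Subgroup G) ≤ K → K < P → K ≤ M)
    (hw : 4 * Nat.card (Z ⊓ centralizer (P : Set G) : Subgroup G) ≤ Nat.card Z) : False := by
  classical
  have hc1 : 1 ≤ Nat.card (Z ⊓ centralizer (P : Set G) : Subgroup G) := Nat.card_pos
  obtain ⟨h1, h7⟩ := one_seven hr F hne hirr hZV hZS (by omega)
  obtain ⟨b⟩ := hne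
  obtain ⟨h2, h3⟩ := seven_facts F (fun x => h1 x b) (h7 b) hZV hZS
  obtain ⟨x, hx, x1, hxP⟩ := h3 (by omega) P hPM hSP hP
  have h8 : 2 ≤ Nat.card (Z ⊓ centralizer (P : Set G) : Subgroup G) := by
    have hnt : Nontrivial (Z ⊓ centralizer (P : Set G) : Subgroup G) :=
      ⟨⟨⟨x, mem_inf.2 ⟨hx, hxP⟩⟩, 1, fun h => x1 (congrArg Subtype.val h)⟩⟩
    exact Finite.one_lt_card_iff_nontrivial.2 hnt
  omega

end main

end Cfsg.Agent.Omega.SQT.WideS
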