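import Cfsg.Agent.Omega.SQT.Multi
import Cfsg.Agent.Omega.S5.Main
import Cfsg.Agent.Omega.IId.Main
import Cfsg.Agent.Omega.Node.NO3S

/-!
# Strongly quasithin groups: sub-leaves which are void, or reduce to `k ≤ 2`, `m = 2`

* `natBig`, `symBig` : the cases `m ≥ 3` of II.c (`Omega/S5/Main.lean`) do not occur;
* `wrBig` : more than two natural factors (`Omega/IId/Main.lean`) do not occur;
* `MultiTwo2`, `MultiQ2`, `SymTwo2` : the FF-modules with several blocks of NO-3S (`Omega/Node/NO3S.lean`) with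
  exactly two natural factors, resp. two factors `S₅`; `symBigJ` : `S_{2^m+1}`, `m ≥ 3`, does not occur;
* `WrSym2` : `WrSym` of II.d, `P'` with one or two factors `S₅`.
-/

set_option autoImplicit false

namespace Cfsg.Agent.Omega.SQT.Void

open Subgroup Cfsg Cfsg.Agent.ZN Cfsg.Agent.Omega.MinPar Cfsg.Agent.Omega.Frame
open Cfsg.Agent.Omega.FrameLE (AllIn)
open Cfsg.Agent.Omega.FrameFF (Free cv)
open Cfsg.Agent.Omega.FrameMulti
open Cfsg.Agent.Omega.FFThm (NatK SymK ActsSL ActsSym)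
open Cfsg.Agent.Omega.NatPair (ap ap_mul ap_one ap_inj ap_inv_ap)
open Cfsg.Agent.Omega.SQT.Main (QK)
open Cfsg.Agent.Omega.SQT.Multi (three)

universe u

/-! ### Natural factors over `D` -/

section nat

variable {G : Type u} [Group G] {S P D : Subgroup G} {F : Type} [Field F] {k : ℕ}

theorem e_inv (h : NatK F S P (zl S P) D k) {w : G} (hw : w ∈ zl S P) : h.e w⁻¹ = - h.e w := by
  have h1 : h.e 1 = 0 := (h.ker 1 (one_mem _)).2 (one_mem _)
  have h2 := h.mul w hw w⁻¹ (inv_mem hw)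
  rw [mul_inv_cancel, h1] at h2
  exact (neg_eq_of_add_eq_zero_right h2.symm).symm

theorem pAct (h : NatK F S P (zl S P) D k) (hDV : D ≤ zl S P) (hD : ∀ g ∈ P, ∀ d ∈ D, g * d * g⁻¹ ∈ D) :
    Rank.PAct P (zl S P) (ActsSL h.e (zl S P) D) where
  one g hg hc := by
    refine ⟨fun v hv i => ?_, fun d hd => ?_⟩
    · have h1 : g * v * g⁻¹ = v := by
        rw [← mem_centralizer_iff.mp hc v hv, mul_inv_cancel_right]
      rw [h1, Pi.one_apply, ap_one]
    · exact (mem_centralizer_iff.mp hc d (hDV hd)).symm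
  mul g hg x hx A B hA hB := by
    refine ⟨fun v hv i => ?_, fun d hd => ?_⟩
    · have h1 : g * x * v * (g * x)⁻¹ = g * (x * v * x⁻¹) * g⁻¹ := by group
      rw [h1, hA.1 _ (Rank.conj_mem_zl hx hv), hB.1 v hv, Pi.mul_apply, ap_mul]
    · rw [mul_assoc, hB.2 d hd, ← mul_assoc, hA.2 d hd, mul_assoc]
  inv g hg A hA := by
    refine ⟨fun v hv i => ?_, fun d hd => ?_⟩
    · have hw := Rank.conj_mem_zl (P.inv_mem hg) hv
      have h1 := hA.1 _ hw i
      have h2 : g * (g⁻¹ * v * g⁻¹⁻¹) * g⁻¹ = v := by group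
      rw [h2] at h1
      rw [h1, Pi.inv_apply, ap_inv_ap]
    · have h1 := hA.2 d hd
      calc g⁻¹ * d = g⁻¹ * (d * g) * g⁻¹ := by group
        _ = d * g⁻¹ := by rw [← h1]; group
  uniq g hg A B hA hB := by
    funext i
    apply ap_inj
    intro x
    obtain ⟨v, hv, hx⟩ := h.surj (fun _ => x)
    have h1 := hA.1 v hv i
    rw [hB.1 v hv i, hx] at h1
    exact h1.symm
  conj g hg x hx hA := by
    refine ⟨fun v hv i => ?_, fun d hd => ?_⟩
    · rw [Pi.one_apply, ap_one]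
      have hw := Rank.conj_mem_zl (P.inv_mem hg) hv
      rw [inv_inv] at hw
      have hxw := Rank.conj_mem_zl hx hw
      have hd : x * (g⁻¹ * v * g) * x⁻¹ * (g⁻¹ * v * g)⁻¹ ∈ D := by
        rw [← h.ker _ (mul_mem hxw (inv_mem hw)), h.mul _ hxw _ (inv_mem hw), e_inv h hw]
        funext i
        have := hA.1 _ hw i
        rw [Pi.one_apply, ap_one] at this
        rw [Pi.add_apply, this, Pi.neg_apply, add_neg_cancel, Pi.zero_apply]
      have hd' := hD g hg _ hd
      have h1 : g * x * g⁻¹ * v * (g * x * g⁻¹)⁻¹ =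
          g * (x * (g⁻¹ * v * g) * x⁻¹ * (g⁻¹ * v * g)⁻¹) * g⁻¹ * v := by group
      rw [h1, h.mul _ (hDV hd') v hv, (h.ker _ (hDV hd')).2 hd', zero_add]
    · have h1 := hD g⁻¹ (P.inv_mem hg) d hd
      rw [inv_inv] at h1
      have h2 := hA.2 _ h1
      calc g * x * g⁻¹ * d = g * (x * (g⁻¹ * d * g)) * g⁻¹ := by group
        _ = d * (g * x * g⁻¹) := by rw [h2]; group

/-- `k` natural factors over `D = 1`: `k ≤ m_3(G)`. -/
theorem natK_bot_le [CharP F 2] [Finite G] (hc : IsCharacteristicTwoType G) (S : Sylow 2 G) {P : Subgroup G}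
    (hP : IsParS (S : Subgroup G) P) (h : NatK F S P (zl (S : Subgroup G) P) ⊥ k) {m : ℕ}
    (hr : PRankLE 3 m G) : k ≤ m := by
  rcases Nat.eq_zero_or_pos k with h0 | h0
  · omega
  · refine Rank.rank_le_of_act hc S hP (pAct h bot_le ?_) (Rank.toSLK F k) (Rank.toSLK_injective F k)
      (fun σ => ?_) h0 hr
    · intro g _ d hd
      rw [mem_bot] at hd ⊢
      rw [hd, mul_one, mul_inv_cancel]
    · obtain ⟨g, hg, hA⟩ := h.lift (Rank.toSLK F k σ)
      exact ⟨g, hg, hA⟩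

end nat

/-! ### Even-subset modules -/

section even

open Cfsg.Agent.Omega.S5.Def (EvenSet Acts)

variable {G : Type u} [Group G]

theorem evenAct {n : ℕ} {V L : Subgroup G} {ε : (Fin n → ZMod 2) → G} (h : EvenSet n V L ε) (hn : 3 ≤ n) :
    Rank.PAct L V (Acts ε) where
  one _ _ hc := h.acts_one_iff.mpr hc
  mul _ _ _ _ _ _ hA hB := hA.mul hB
  inv _ _ _ hA := hA.inv
  uniq _ _ _ _ hA hB := h.acts_unique hn hA hB
  conj g hg x _ hA := by
    obtain ⟨σ, hσ⟩ := h.perm g hg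
    have h1 := hσ.conj hA
    rwa [mul_one, mul_inv_cancel] at h1

/-- `S₃^3 → S_n`, `n ≥ 9` -/
noncomputable def toSymN {n : ℕ} (h : 9 ≤ n) : (Fin 3 → Equiv.Perm (Fin 3)) →* Equiv.Perm (Fin n) :=
  (Equiv.Perm.viaEmbeddingHom (Function.Embedding.trans finProdFinEquiv.toEmbedding
      (Fin.castLEEmb (n := 3 * 3) h))).comp
      ((MulEquiv.toMonoidHom (Equiv.sigmaEquivProd (Fin 3) (Fin 3)).permCongrHom).comp
        (Equiv.Perm.sigmaCongrRightHom (fun _ : Fin 3 => Fin 3)))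

theorem toSymN_injective {n : ℕ} (h : 9 ≤ n) : Function.Injective (toSymN h) := by
  refine (Equiv.Perm.viaEmbeddingHom_injective _).comp ?_
  exact (Equiv.sigmaEquivProd (Fin 3) (Fin 3)).permCongrHom.injective.comp
    Equiv.Perm.sigmaCongrRightHom_injective

/-- An even-subset module of degree `2^m + 1`, `m ≥ 3`, does not occur. -/
theorem even_lt [Finite G] (hc : IsCharacteristicTwoType G) (S : Sylow 2 G) {P : Subgroup G}
    (hP : IsParS (S : Subgroup G) P) {m : ℕ} {ε : (Fin (2 ^ m + 1) → ZMod 2) → G}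
    (h : EvenSet (2 ^ m + 1) (zl (S : Subgroup G) P) P ε) (hr : PRankLE 3 2 G) : m < 3 := by
  by_contra hm
  have h9 : 9 ≤ 2 ^ m + 1 := by
    have : 2 ^ 3 ≤ 2 ^ m := Nat.pow_le_pow_right (by norm_num) (by omega)
    omega
  have := Rank.rank_le_of_act hc S hP (evenAct h (by omega)) (toSymN h9) (toSymN_injective h9)
    (fun σ => h.full (toSymN h9 σ)) (by norm_num) hr
  omega

theorem natBig : S5.Main.NatBig QK.{u} := by
  intro G _ _ hG hq S _ _ _ _ _ P₁ P₂ y m ε hm hl _ _ _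
  have h1 := even_lt hG.char2 S hl.pair.star₁ hl.even (three hq)
  omega

theorem symBig : S5.Main.SymBig QK.{u} := by
  intro G _ _ hG hq S _ _ _ _ _ P₁ P₂ y m m' ε ε₂ _ _ hb hl
  have h1 := even_lt hG.char2 S hl.pair.star₁ hl.even (three hq)
  have h2 := even_lt hG.char2 S hl.pair.star₂ hl.even₂ (three hq)
  omega

end even

/-! ### II.d -/

section wr

theorem wrBig : IId.WrBig QK.{u} := by
  intro G _ _ S S' hH P P' hp F F' _ _ _ _ _ _ k k' M M' _ _ hb _
  have h1 := natK_bot_le hH.ctx.char2 S hp.star M (three hH.cls)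
  have h2 := natK_bot_le hH.ctx.char2 S' hp.star' M' (three hH.cls)
  omega

/-- `WrSym` for `QK`: two natural factors against one or two factors `S₅`. -/
def WrSym2 : Prop :=
  ∀ (G : Type u) [Group G] [Finite G] (S S' : Sylow 2 G), IId.Hyp QK S → ∀ (P P' : Subgroup G),
    IId.Pair S S' P P' → IsNat (S : Subgroup G) P 2 → Free (S : Subgroup G) P → Free (S' : Subgroup G) P' →
      ∀ k', 1 ≤ k' → k' ≤ 2 → IsSym (S' : Subgroup G) P' k' 2 → IsKnownSimple' G

theorem wrSym (h : WrSym2.{u}) : IId.WrSym QK.{u} := by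
  intro G _ _ S S' hH P P' hp k hk hN f1 f2 k' m' hk' hm' hS
  have h1 := Multi.isNat_le hH.ctx hH.cls hp.star hN
  obtain rfl : k = 2 := by omega
  obtain ⟨h2, rfl⟩ := Multi.isSym_le hH.ctx hH.cls hp.star' hk' hm' hS
  exact h G S S' hH P P' hp hN f1 f2 k' hk' h2 hS

/-- `WrCv` for `QK`: exactly two natural factors. -/
def WrCv2 : Prop :=
  ∀ (G : Type u) [Group G] [Finite G] (S S' : Sylow 2 G), IId.Hyp QK S → ∀ (P P' : Subgroup G),
    IId.Pair S S' P P' → IsNat (S : Subgroup G) P 2 →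
      ¬ (Free (S : Subgroup G) P ∧ Free (S' : Subgroup G) P') → IsKnownSimple' G

theorem wrCv (h : WrCv2.{u}) : IId.WrCv QK.{u} := by
  intro G _ _ S S' hH P P' hp k hk hN hf
  have h1 := Multi.isNat_le hH.ctx hH.cls hp.star hN
  obtain rfl : k = 2 := by omega
  exact h G S S' hH P P' hp hN hf

/-- `WrTwo` for `QK`: two factors against at most two. -/
def WrTwo2 : Prop :=
  ∀ (G : Type u) [Group G] [Finite G] (S S' : Sylow 2 G), IId.Hyp QK S → ∀ (P P' : Subgroup G),
    IId.Pair S S' P P' →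
    ∀ (F F' : Type) [Field F] [Finite F] [CharP F 2] [Field F'] [Finite F'] [CharP F' 2] (k' : ℕ)
      (_ : NatK F (S : Subgroup G) P (zl (S : Subgroup G) P) ⊥ 2)
      (_ : NatK F' (S' : Subgroup G) P' (zl (S' : Subgroup G) P') ⊥ k'), 1 ≤ k' → k' ≤ 2 →
      Nat.card ↥⁅zl (S : Subgroup G) P, zl (S' : Subgroup G) P'⁆ ≠ Nat.card F → False

theorem wrTwo (h : WrTwo2.{u}) : IId.WrTwo QK.{u} := by
  intro G _ _ S S' hH P P' hp F F' _ _ _ _ _ _ k k' M M' hk hk' hc
  have h1 := natK_bot_le hH.ctx.char2 S hp.star M (three hH.cls)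
  have h2 := natK_bot_le hH.ctx.char2 S' hp.star' M' (three hH.cls)
  obtain rfl : k = 2 := by omega
  exact h G S S' hH P P' hp F F' k' M M' hk' h2 hc

/-- **`LeafWr` for `QK`.** -/
theorem leafWr (h1 : WrCv2.{u}) (h2 : WrSym2.{u}) (h3 : WrTwo2.{u}) (h5 : IId.WrTri QK.{u})
    (h6 : IId.WrMain2 QK.{u}) (h7 : IId.WrMain4 QK.{u}) : LeafWr QK.{u} :=
  IId.leafWr (wrCv h1) (wrSym h2) (wrTwo h3) wrBig h5 h6 h7

end wr

/-! ### NO-3S -/

section no3s

/-- `MultiTwo` for `QK`: exactly two natural factors, `q = 2`. -/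
def MultiTwo2 : Prop :=
  ∀ (G : Type u) [Group G] [Finite G], Quasithin.StrQ G → ∀ (S : Sylow 2 G) (P : Subgroup G), NO3S.HypJ S P →
    ∀ (F : Type) [Field F] [Finite F] [CharP F 2], Nat.card F = 2 →
      NatK F (S : Subgroup G) P (zl (S : Subgroup G) P) (cv (S : Subgroup G) P) 2 → IsKnownSimple' G

/-- `MultiQ` for `QK`: exactly two natural factors, `q ≥ 4`. -/
def MultiQ2 : Prop :=
  ∀ (G : Type u) [Group G] [Finite G], Quasithin.StrQ G → ∀ (S : Sylow 2 G) (P : Subgroup G), NO3S.HypJ S P →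
    ∀ (F : Type) [Field F] [Finite F] [CharP F 2], 4 ≤ Nat.card F →
      NatK F (S : Subgroup G) P (zl (S : Subgroup G) P) (cv (S : Subgroup G) P) 2 → IsKnownSimple' G

/-- `SymMany` for `QK`: exactly two factors `S₅`. -/
def SymTwo2 : Prop :=
  ∀ (G : Type u) [Group G] [Finite G], Quasithin.StrQ G → ∀ (S : Sylow 2 G) (P : Subgroup G), NO3S.HypJ S P →
    SymK (S : Subgroup G) P (zl (S : Subgroup G) P) (cv (S : Subgroup G) P) 2 2 → IsKnownSimple' G

theorem multiTwo (h : MultiTwo2.{u}) : NO3S.MultiTwo QK.{u} := by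
  intro G _ _ hq S P hH F _ _ _ k hk hc M
  have h1 := Rank.natK_le hH.ctx.char2 S hH.star M (three hq)
  obtain rfl : k = 2 := by omega
  exact h G hq S P hH F hc M

theorem multiQ (h : MultiQ2.{u}) : NO3S.MultiQ QK.{u} := by
  intro G _ _ hq S P hH F _ _ _ k hk hc M
  have h1 := Rank.natK_le hH.ctx.char2 S hH.star M (three hq)
  obtain rfl : k = 2 := by omega
  exact h G hq S P hH F hc M

/-- `SymBig` (one factor `S_{2^m+1}`, `m ≥ 3`) is void. -/
theorem symBigJ : NO3S.SymBig QK.{u} := by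
  intro G _ _ hq S P hH m hm M
  obtain ⟨-, h1⟩ := Rank.symK_le hH.ctx.char2 S hH.star M (by omega) (three hq) le_rfl
  omega

theorem symMany (h : SymTwo2.{u}) : NO3S.SymMany QK.{u} := by
  intro G _ _ hq S P hH k m hk hm M
  obtain ⟨h1, rfl⟩ := Rank.symK_le hH.ctx.char2 S hH.star M hm (three hq) (by omega)
  obtain rfl : k = 2 := by omega
  exact h G hq S P hH M

theorem multiSym (h1 : NO3S.SymTwo QK.{u}) (h2 : SymTwo2.{u}) : NO3S.MultiSym QK.{u} :=
  NO3S.multiSym h1 symBigJ (symMany h2)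

end no3s

end Cfsg.Agent.Omega.SQT.Void
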