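import Cfsg.Agent.Omega.Node.CaseLPEnds
import Cfsg.Agent.Omega.SQT.Void

/-!
# The FF-ends of the case (L) (`Node/CaseLPEnds.lean`, `CaseIn K`) in the strongly quasithin case (helper673)

For `QK` (`m₃(G) ≤ 2`) the rows `k ≥ 3` (natural), `m ≥ 3` or `k ≥ 3` (symmetric) are void:

* `k_le`, `sym_le` : `MulL .. q → k = 2`, `SymL .. k m → k ≤ 2 ∧ m = 2` (over `StrQ`);
* `omX_mono2`, `eX_mono2`, `omSX_mono2`, `eSX_mono2` : a condition is needed only for `k = 2` (resp. `k ≤ 2`, `m = 2`);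
* `CaseInQ` : the inputs of `CaseIn QK` which are needed; **`CaseInQ.toCaseIn`**.
-/

set_option autoImplicit false
set_option linter.unusedSectionVars false

namespace Cfsg.Agent.Omega.SQT.CaseQ

open Subgroup Cfsg Cfsg.Agent.ZN
open Cfsg.Agent.Omega.NO3S Cfsg.Agent.Omega.NO3S.Level
open Cfsg.Agent.Omega.Node.MulX Cfsg.Agent.Omega.Node.CaseLPEnds
open Cfsg.Agent.Omega.SQT.Main (QK)
open Cfsg.Agent.Omega.SQT.Multi (three)

universe u

/-- `k ≤ 2` -/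
theorem k_le {G : Type u} [Group G] [Finite G] (hq : Quasithin.StrQ G) {S : Sylow 2 G} {P B ZJ : Subgroup G} {k : ℕ}
    {L W Z C A : Fin k → Subgroup G} {q : ℕ} (hM : MulL S P B ZJ L W Z C A q) : k ≤ 2 := by
  obtain ⟨F, _, _, _, -, ⟨N⟩⟩ := hM.nat
  have hF := CaseL.hypF hM.cl
  exact Rank.natK_le hF.ctx.char2 S hF.star N.toNatK (three hq)

/-- `k ≤ 2`, `m = 2` -/
theorem sym_le {G : Type u} [Group G] [Finite G] (hq : Quasithin.StrQ G) {S : Sylow 2 G} {P B ZJ : Subgroup G}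
    {ι : Type} {L W Z C A : ι → Subgroup G} {k m : ℕ} (hk : 0 < k) (hm : 2 ≤ m) (hM : SymL S P B ZJ L W Z C A k m) :
    k ≤ 2 ∧ m = 2 := by
  obtain ⟨N⟩ := hM.sym
  have hF := CaseL.hypF hM.cl
  exact Rank.symK_le hF.ctx.char2 S hF.star N.toSymK hm (three hq) hk

variable {c d : ℕ → ℕ → Prop}

theorem omX_mono2 (h : ∀ q, d 2 q → c 2 q) (h1 : OmX QK.{u} c) : OmX QK.{u} d := by
  intro G _ _ hq S P B ZJ k L W Z C A q hk hc hM h3 h4 h5
  have h2 := k_le hq hM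
  obtain rfl : k = 2 := by omega
  exact h1 G hq S P B ZJ 2 L W Z C A q hk (h q hc) hM h3 h4 h5

theorem eX_mono2 (h : ∀ q, d 2 q → c 2 q) (h1 : EX QK.{u} c) : EX QK.{u} d := by
  intro G _ _ hq S P B ZJ k L W Z C A q hk hc hM hN
  have h2 := k_le hq hM
  obtain rfl : k = 2 := by omega
  exact h1 G hq S P B ZJ 2 L W Z C A q hk (h q hc) hM hN

theorem omSX_mono2 (h : ∀ k, 0 < k → k ≤ 2 → d k 2 → c k 2) (h1 : OmSX QK.{u} c) : OmSX QK.{u} d := by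
  intro G _ _ hq S P B ZJ ι L W Z C A k m hk hm hc hM h3 h4 h5
  obtain ⟨h2, rfl⟩ := sym_le hq hk hm hM
  exact h1 G hq S P B ZJ ι L W Z C A k 2 hk hm (h k hk h2 hc) hM h3 h4 h5

theorem eSX_mono2 (h : ∀ k, 0 < k → k ≤ 2 → d k 2 → c k 2) (h1 : ESX QK.{u} c) : ESX QK.{u} d := by
  intro G _ _ hq S P B ZJ ι L W Z C A k m hk hm hc hM hN
  obtain ⟨h2, rfl⟩ := sym_le hq hk hm hM
  exact h1 G hq S P B ZJ ι L W Z C A k 2 hk hm (h k hk h2 hc) hM hN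

/-- void -/
theorem eMany : EX QK.{u} fun k q => 3 ≤ k ∧ q = 2 := by
  intro G _ _ hq S P B ZJ k L W Z C A q hk hc hM hN
  have h2 := k_le hq hM
  omega

/-- void -/
theorem eManyQ : EX QK.{u} fun k q => 3 ≤ k ∧ 4 ≤ q := by
  intro G _ _ hq S P B ZJ k L W Z C A q hk hc hM hN
  have h2 := k_le hq hM
  omega

/-- **The inputs of `CaseIn QK` which are needed.** -/
structure CaseInQ : Prop where
  /-- (Om), two natural `SL₂(2)`-modules -/
  omTwo : OmX QK.{u} fun k q => k = 2 ∧ q = 2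
  /-- (E), two natural `SL₂(2)`-modules -/
  eTwo : EX QK.{u} fun k q => k = 2 ∧ q = 2
  /-- (Om), two natural `SL₂(q)`-modules, `q ≥ 4` -/
  omQ : OmX QK.{u} fun k q => k = 2 ∧ 4 ≤ q
  /-- (E), two natural `SL₂(q)`-modules, `q ≥ 4` -/
  eTwoQ : EX QK.{u} fun k q => k = 2 ∧ 4 ≤ q
  /-- (Om), one or two even-subset modules of `S₅` -/
  omS : OmSX QK.{u} fun k m => k ≤ 2 ∧ m = 2
  /-- (E), one `S₅`, light vectors not 2-central -/
  light : ELX QK.{u}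
  /-- (E), two `S₅` -/
  eS : ESX QK.{u} fun k m => k = 2 ∧ m = 2

/-- **`CaseIn QK`.** -/
theorem CaseInQ.toCaseIn (I : CaseInQ.{u}) : CaseIn QK.{u} where
  omTwo := omX_mono2 (fun _ h => ⟨rfl, h⟩) I.omTwo
  eTwo := I.eTwo
  eMany := eMany
  omQ := omX_mono2 (fun _ h => ⟨rfl, h⟩) I.omQ
  eTwoQ := I.eTwoQ
  eManyQ := eManyQ
  omS := omSX_mono2 (fun _ _ h2 _ => ⟨h2, rfl⟩) I.omS
  light := I.light
  eS := eSX_mono2 (fun k hk h2 h => ⟨by omega, rfl⟩) I.eS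

end Cfsg.Agent.Omega.SQT.CaseQ
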