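import Cfsg.Agent.Omega.SQT.CvQ
import Cfsg.Agent.Omega.IId.Ns.Main

/-!
# II.d, `CvNonsplit` in the strongly quasithin case

`nonsplit2 : CvQ.Nonsplit2`, `cvNonsplit : Cv.CvNonsplit QK`.
-/

set_option autoImplicit false

namespace Cfsg.Agent.Omega.SQT.CvNs

open Subgroup Cfsg Cfsg.Agent.ZN Cfsg.Agent.Omega.MinPar
open Cfsg.Agent.Omega.SQT.Main (QK)

universe u

theorem nonsplit2 : CvQ.Nonsplit2.{u} := by
  intro G _ _ S S' hH P P' hp k' hk1 hk2 M M' hs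
  exact (IId.Ns.nonsplit_two hH.ctx.char2 hp (hH.typed' hp).1.noOver (hH.typed' hp).2.noOver hk1 hk2 M M' hs).elim

theorem cvNonsplit : IId.Cv.CvNonsplit QK.{u} := CvQ.cvNonsplit nonsplit2

end Cfsg.Agent.Omega.SQT.CvNs
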