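import Cfsg.Agent.Omega.SQT.Void
import Cfsg.Agent.Omega.IId.Cv.Main
import Cfsg.Agent.Omega.IId.Cv.MixSym

/-!
# II.d, the sub-leaves of `WrCv` in the strongly quasithin case

* `cvBig : Cv.CvBig QK` : void;
* `Nonsplit2`, `SymNat2` : `CvNonsplit`, `CvSymNat` for two natural factors (and `S₅`).
-/

set_option autoImplicit false

namespace Cfsg.Agent.Omega.SQT.CvQ

open Subgroup Cfsg Cfsg.Agent.ZN Cfsg.Agent.Omega.MinPar Cfsg.Agent.Omega.Frame
open Cfsg.Agent.Omega.FrameFF (Free cv)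
open Cfsg.Agent.Omega.FrameMulti
open Cfsg.Agent.Omega.FFThm (NatK SymK ActsSL ActsSym)
open Cfsg.Agent.Omega.NatPair (ap ap_mul ap_one ap_inj ap_inv_ap)
open Cfsg.Agent.Omega.SQT.Main (QK)
open Cfsg.Agent.Omega.SQT.Multi (three)
open Cfsg.Agent.Omega.IId (NatV NatD Pair)
open Cfsg.Agent.Omega.HOne.Main (SplitPar)

universe u

section nat

variable {G : Type u} [Group G] {S P V : Subgroup G} {F : Type} [Field F] {k : ℕ}

theorem pAct (h : NatV F S P V k) (hV : V ≤ zl S P) : Rank.PAct P (zl S P) (ActsSL h.e V ⊥) where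
  one g hg hc := by
    refine ⟨fun v hv i => ?_, fun d hd => ?_⟩
    · have h1 : g * v * g⁻¹ = v := by
        rw [← mem_centralizer_iff.mp hc v (hV hv), mul_inv_cancel_right]
      rw [h1, Pi.one_apply, ap_one]
    · rw [mem_bot] at hd
      rw [hd, mul_one, one_mul]
  mul g hg x hx A B hA hB := by
    refine ⟨fun v hv i => ?_, fun d hd => ?_⟩
    · have h1 : g * x * v * (g * x)⁻¹ = g * (x * v * x⁻¹) * g⁻¹ := by group
      rw [h1, hA.1 _ (IId.NV.cj_mem h hx hv), hB.1 v hv, Pi.mul_apply, ap_mul]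
    · rw [mem_bot] at hd
      rw [hd, mul_one, one_mul]
  inv g hg A hA := by
    refine ⟨fun v hv i => ?_, fun d hd => ?_⟩
    · have hw := IId.NV.cj_mem h (P.inv_mem hg) hv
      have h1 := hA.1 _ hw i
      have h2 : g * (g⁻¹ * v * g⁻¹⁻¹) * g⁻¹ = v := by group
      rw [h2] at h1
      rw [h1, Pi.inv_apply, ap_inv_ap]
    · rw [mem_bot] at hd
      rw [hd, mul_one, one_mul]
  uniq g hg A B hA hB := by
    funext i
    apply ap_inj
    intro x
    obtain ⟨v, hv, hx⟩ := h.surj (fun _ => x)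
    have h1 := hA.1 v hv i
    rw [hB.1 v hv i, hx] at h1
    exact h1.symm
  conj g hg x hx hA := by
    refine ⟨fun v hv i => ?_, fun d hd => ?_⟩
    · rw [Pi.one_apply, ap_one]
      have hw := IId.NV.cj_mem h (P.inv_mem hg) hv
      rw [inv_inv] at hw
      have hxw := IId.NV.cj_mem h hx hw
      have hd : x * (g⁻¹ * v * g) * x⁻¹ * (g⁻¹ * v * g)⁻¹ ∈ (⊥ : Subgroup G) := by
        rw [← h.ker _ (mul_mem hxw (inv_mem hw)), h.mul _ hxw _ (inv_mem hw)]
        have h3 := h.mul _ hw _ (inv_mem hw)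
        rw [mul_inv_cancel, IId.NV.e_one h] at h3
        funext i
        have := hA.1 _ hw i
        rw [Pi.one_apply, ap_one] at this
        rw [Pi.add_apply, this, ← Pi.add_apply, ← h3]
      rw [mem_bot] at hd
      have h1 : g * x * g⁻¹ * v * (g * x * g⁻¹)⁻¹ =
          g * (x * (g⁻¹ * v * g) * x⁻¹ * (g⁻¹ * v * g)⁻¹) * g⁻¹ * v := by group
      rw [h1, hd, mul_one, mul_inv_cancel, one_mul]
    · rw [mem_bot] at hd
      rw [hd, mul_one, one_mul]

/-- `k` natural factors: `k ≤ m_3(G)`. -/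
theorem natV_le [CharP F 2] [Finite G] (hc : IsCharacteristicTwoType G) (S : Sylow 2 G) {P V : Subgroup G}
    (hP : IsParS (S : Subgroup G) P) (h : NatV F (S : Subgroup G) P V k) (hV : V ≤ zl (S : Subgroup G) P) {m : ℕ}
    (hr : PRankLE 3 m G) : k ≤ m := by
  rcases Nat.eq_zero_or_pos k with h0 | h0
  · omega
  · refine Rank.rank_le_of_act hc S hP (pAct h hV) (Rank.toSLK F k) (Rank.toSLK_injective F k)
      (fun σ => ?_) h0 hr
    obtain ⟨g, hg, hA⟩ := h.lift (Rank.toSLK F k σ)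
    exact ⟨g, hg, hA⟩

theorem natD_le [CharP F 2] [Finite G] {S : Sylow 2 G} {P V D : Subgroup G} (M : NatD F S P V D k) {m : ℕ}
    (hr : PRankLE 3 m G) : k ≤ m :=
  natV_le M.hG S M.star M.toNatV M.V_le hr

end nat

/-- void -/
theorem cvBig : IId.Cv.CvBig QK.{u} := by
  intro G _ _ S S' hH P P' hp F F' _ _ _ _ _ _ V V' D D' k k' M M' _ _ _ hb
  have h1 := natD_le M (three hH.cls)
  have h2 := natD_le M' (three hH.cls)
  omega

/-- `CvNonsplit` for `QK`: two factors against one or two. -/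
def Nonsplit2 : Prop :=
  ∀ (G : Type u) [Group G] [Finite G] (S S' : Sylow 2 G), IId.Cv.HypN QK S → ∀ (P P' : Subgroup G),
    Pair S S' P P' → ∀ k', 1 ≤ k' → k' ≤ 2 → IsNat (S : Subgroup G) P 2 → IsNat (S' : Subgroup G) P' k' →
      ¬ (SplitPar (S : Subgroup G) P ∧ SplitPar (S' : Subgroup G) P') → IsKnownSimple' G

theorem cvNonsplit (h : Nonsplit2.{u}) : IId.Cv.CvNonsplit QK.{u} := by
  intro G _ _ S S' hH P P' hp k k' hk hk' M M' hs
  have h1 := Multi.isNat_le hH.ctx hH.cls hp.star M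
  have h2 := Multi.isNat_le hH.ctx hH.cls hp.star' M'
  obtain rfl : k = 2 := by omega
  exact h G S S' hH P P' hp k' hk' h2 M M' hs

/-- `CvSymNat` for `QK`: two natural factors against `S₅`. -/
def SymNat2 : Prop :=
  ∀ (G : Type u) [Group G] [Finite G] (S S' : Sylow 2 G), IId.Cv.HypN QK S → ∀ (P P' : Subgroup G),
    Pair S S' P P' → ∀ (F : Type) [Field F] [Finite F] [CharP F 2]
      (_ : NatK F (S : Subgroup G) P (zl (S : Subgroup G) P) (cv (S : Subgroup G) P) 2)
      (_ : SymK (S' : Subgroup G) P' (zl (S' : Subgroup G) P') (cv (S' : Subgroup G) P') 1 2),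
      cv (S : Subgroup G) P ≠ ⊥ → IsKnownSimple' G

theorem cvSymNat (h : SymNat2.{u}) : IId.Cv.CvSymNat QK.{u} := by
  intro G _ _ S S' hH P P' hp F _ _ _ k m' M M' hk hm' hcv
  have h1 := Rank.natK_le hH.ctx.char2 S hp.star M (three hH.cls)
  obtain ⟨-, h2⟩ := Rank.symK_le hH.ctx.char2 S' hp.star' M' hm' (three hH.cls) le_rfl
  subst h2
  obtain rfl : k = 2 := by omega
  exact h G S S' hH P P' hp F M M' hcv

end Cfsg.Agent.Omega.SQT.CvQ
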