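import Cfsg.Agent.Omega.SQT.Void
import Cfsg.Agent.Omega.F4Leaf.Split

/-!
# `LeafF4` in the strongly quasithin case

The inputs `F4NatBig`, `F4SymBig` of `LeafF4` (`Omega/F4Leaf/Main.lean`: a member of type `S_{2^m+1}`, `m ≥ 3`) are
void for `QK`; `leafF4` : `NatStep`, `F4NC`, `F4Cen`, `F4Nat` imply `LeafF4 QK`.
-/

set_option autoImplicit false

namespace Cfsg.Agent.Omega.SQT.FFour

open Subgroup Cfsg Cfsg.Agent.ZN Cfsg.Agent.Omega.MinPar Cfsg.Agent.Omega.Frame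
open Cfsg.Agent.Omega.SQT.Main (QK)
open Cfsg.Agent.Omega.SQT.Multi (three)
open Cfsg.Agent.Omega.S5.Def (EvenSet Acts)
open Cfsg.Agent.Omega.F4Leaf.Main Cfsg.Agent.Omega.F4Leaf.Def

universe u

section

variable {G : Type u} [Group G]

theorem evenAct {n : ℕ} {V A L : Subgroup G} {ε : (Fin n → ZMod 2) → G} (h : EvenSet n A L ε) (hn : 3 ≤ n)
    (hA : A ≤ V) : Rank.PAct L V (Acts ε) where
  one _ _ hc := h.acts_one_iff.mpr (centralizer_le hA hc)
  mul _ _ _ _ _ _ hA hB := hA.mul hB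
  inv _ _ _ hA := hA.inv
  uniq _ _ _ _ hA hB := h.acts_unique hn hA hB
  conj g hg x _ hA := by
    obtain ⟨σ, hσ⟩ := h.perm g hg
    have h1 := hσ.conj hA
    rwa [mul_one, mul_inv_cancel] at h1

/-- A member of type `S_{2^m+1}` with `V_P = V₀ × A`: `m < 3`. -/
theorem split_lt [Finite G] (hc : IsCharacteristicTwoType G) (S : Sylow 2 G) {P : Subgroup G}
    (hP : IsParS (S : Subgroup G) P) {m : ℕ} {A : Subgroup G} {ε : (Fin (2 ^ m + 1) → ZMod 2) → G}
    (h : Split (S : Subgroup G) P m A ε) (hr : PRankLE 3 2 G) : m < 3 := by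
  by_contra hm
  have h9 : 9 ≤ 2 ^ m + 1 := by
    have : 2 ^ 3 ≤ 2 ^ m := Nat.pow_le_pow_right (by norm_num) (by omega)
    omega
  have := Rank.rank_le_of_act hc S hP (evenAct h.even (by omega) h.A_le) (Void.toSymN h9)
    (Void.toSymN_injective h9) (fun σ => h.even.full (Void.toSymN h9 σ)) (by norm_num) hr
  omega

end

/-- void -/
theorem f4NatBig : F4NatBig QK.{u} := by
  intro G _ _ hG hq S _ _ _ _ P₁ P₂ y m A ε hm hl _ _ _ _
  have := split_lt hG.char2 S hl.pair.star₁ hl.split (three hq)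
  omega

/-- void -/
theorem f4SymBig : F4SymBig QK.{u} := by
  intro G _ _ hG hq S _ _ _ _ P₁ P₂ y m m' A ε A₂ ε₂ _ _ hb hl _ _
  have h1 := split_lt hG.char2 S hl.pair.star₁ hl.split (three hq)
  have h2 := split_lt hG.char2 S hl.pair.star₂ hl.split₂ (three hq)
  omega

/-- **`LeafF4` for `QK`.** -/
theorem leafF4 (hN : NatStep.{u}) (h1 : F4NC.{u}) (h2 : F4Cen QK.{u}) (h3 : F4Nat QK.{u}) :
    FrameMulti.LeafF4 QK.{u} :=
  leafF4_of F4Leaf.Split.splitStep hN h1 h2 h3 f4NatBig f4SymBig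

end Cfsg.Agent.Omega.SQT.FFour
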