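import Cfsg.Agent.Omega.Node.NO3SOpen
import Cfsg.Agent.Omega.SQT.Void
import Cfsg.Agent.Omega.SQT.CaseQ

/-!
# NO-3S, sockets with levels, in the strongly quasithin case

For `QK` the inputs `MultiTwoL`, `MultiQL`, `SymManyL` of `NO3S.InL` are needed for two factors (`S₅` only), and
`SymBigL`, `SN.Two` are void.  `OpenQ` : the inputs of `NO3S.OpenL QK` which are still needed; `OpenQ.toL`.
-/

set_option autoImplicit false

namespace Cfsg.Agent.Omega.SQT.Lev

open Subgroup Cfsg Cfsg.Agent.ZN Cfsg.Agent.Omega.MinPar Cfsg.Agent.Omega.Frame Cfsg.Agent.Omega.FrameNOFF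
open Cfsg.Agent.Omega.FrameFF (cv)
open Cfsg.Agent.Omega.FFThm (NatKM SymKM)
open Cfsg.Agent.Omega.NO3S
open Cfsg.Agent.Omega.SQT.Main (QK)
open Cfsg.Agent.Omega.SQT.Multi (three)

universe u

/-- Two natural `SL₂(2)`-modules. -/
def MultiTwoL2 : Prop :=
  ∀ (G : Type u) [Group G] [Finite G], Quasithin.StrQ G → ∀ (S : Sylow 2 G) (P : Subgroup G), HypL S P →
    ∀ (F : Type) [Field F] [Finite F] [CharP F 2], Nat.card F = 2 →
      NatKM F (S : Subgroup G) P (zl (S : Subgroup G) P) (cv (S : Subgroup G) P) 2 → IsKnownSimple' G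

/-- Two natural `SL₂(q)`-modules, `q ≥ 4`. -/
def MultiQL2 : Prop :=
  ∀ (G : Type u) [Group G] [Finite G], Quasithin.StrQ G → ∀ (S : Sylow 2 G) (P : Subgroup G), HypL S P →
    ∀ (F : Type) [Field F] [Finite F] [CharP F 2], 4 ≤ Nat.card F →
      NatKM F (S : Subgroup G) P (zl (S : Subgroup G) P) (cv (S : Subgroup G) P) 2 → IsKnownSimple' G

/-- Two even-subset modules of `S₅`. -/
def SymTwoL2 : Prop :=
  ∀ (G : Type u) [Group G] [Finite G], Quasithin.StrQ G → ∀ (S : Sylow 2 G) (P : Subgroup G), HypL S P →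
    SymKM (S : Subgroup G) P (zl (S : Subgroup G) P) (cv (S : Subgroup G) P) 2 2 → IsKnownSimple' G

theorem multiTwoL (h : MultiTwoL2.{u}) : MultiTwoL QK.{u} := by
  intro G _ _ hq S P hH F _ _ _ k hk hc M
  have h1 := Rank.natK_le hH.ctx.char2 S hH.star M.toNatK (three hq)
  obtain rfl : k = 2 := by omega
  exact h G hq S P hH F hc M

theorem multiQL (h : MultiQL2.{u}) : MultiQL QK.{u} := by
  intro G _ _ hq S P hH F _ _ _ k hk hc M
  have h1 := Rank.natK_le hH.ctx.char2 S hH.star M.toNatK (three hq)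
  obtain rfl : k = 2 := by omega
  exact h G hq S P hH F hc M

/-- void -/
theorem symBigL : SymBigL QK.{u} := by
  intro G _ _ hq S P hH m hm M
  obtain ⟨-, h1⟩ := Rank.symK_le hH.ctx.char2 S hH.star M.toSymK (by omega) (three hq) le_rfl
  omega

theorem symManyL (h : SymTwoL2.{u}) : SymManyL QK.{u} := by
  intro G _ _ hq S P hH k m hk hm M
  obtain ⟨h1, rfl⟩ := Rank.symK_le hH.ctx.char2 S hH.star M.toSymK hm (three hq) (by omega)
  obtain rfl : k = 2 := by omega
  exact h G hq S P hH M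

/-- void -/
theorem snTwo : SN.Two QK.{u} := by
  intro G _ _ hq S P m ε h
  have h1 := Void.even_lt h.ctx.char2 S h.star h.ev (three hq)
  have h2 := h.m3
  omega

/-- void -/
theorem uniLevK : EK3.OfMul.UniLevK QK.{u} := by
  intro G _ _ hq S P hH n _ _ F _ _ _ k _ hk M
  have h1 := Rank.natK_le hH.ctx.char2 S hH.star M.toNatK (three hq)
  omega

/-- void -/
theorem eQMany : Node.MultiOf.EOf QK.{u} fun k q => 3 ≤ k ∧ 4 ≤ q := by
  intro G _ _ hq S P K' B ZJ k L W Z C q _ hc hM _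
  obtain ⟨F, _, _, _, -, ⟨M⟩⟩ := hM.nat
  have h1 := Rank.natK_le hM.hyp.ctx.char2 S hM.hyp.star M.toNatK (three hq)
  omega

/-- The inputs of NO-3S which are still open, for `QK`. -/
structure OpenQ : Prop where
  /-- case (L), natural, `q ≥ 4`: THEOREM L(q) -/
  offN : EK3.QL.OffNK QK.{u}
  /-- case (L), `S₅`, light vectors not 2-central: a weird `Y` of the infinite stage -/
  torS : Node.NoWFivePlug.TorSOf QK.{u}
  /-- case (L), `S₅`: the facts at `Y` -/
  y5 : Node.NoWFivePlug.Y5Of.{u}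

theorem OpenQ.toL (I : OpenQ.{u}) : OpenL QK.{u} where
  offN := I.offN
  torS := I.torS
  y5 := I.y5

end Cfsg.Agent.Omega.SQT.Lev
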