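import Cfsg.Agent.Omega.SQT.WideQ
import Cfsg.Agent.Omega.SQT.OneS

/-!
# Project SQT, box R of NO-3L: the sockets of `WideTree` over `QK` (helper949)

* **`wOneS`** : the socket `WOneS` over `QK` is void;
* `WideIn` : the sockets which are left; **`WideIn.wideAll`**.
-/

set_option autoImplicit false
set_option linter.unusedSectionVars false

namespace Cfsg.Agent.Omega.SQT.WideS

open Subgroup Cfsg Cfsg.Agent.ZN Cfsg.Agent.Omega.MinPar Cfsg.Agent.Omega.Frame Cfsg.Agent.Omega.FrameNOFF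
open Cfsg.Agent.Omega.SQT.Main (QK)
open Cfsg.Agent.Omega.SQT.Multi (three)
open Cfsg.Agent.Omega.NOThreeL.Merge (MZ)
open Cfsg.Agent.Omega.NOThreeL.RRed
open Cfsg.Agent.Omega.NOThreeL.RRed.FourTree (Bks)
open Cfsg.Agent.Omega.NOThreeL.RRed.WideTree Cfsg.Agent.Omega.NOThreeL.RRed.GlueSig

universe u

/-- One block of seven letters, `|Z| = 4`: the only case of `WOneS` which is left. -/
def Seven (B : Fr.{u}) : Prop :=
  ∀ (G : Type u) [Group G] [Finite G], QK G → ∀ (S : Sylow 2 G), B G S → Wide S → MvAct (S : Subgroup G) →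
    CM (S : Subgroup G) (fun _ : PUnit.{u + 1} => Wd (S : Subgroup G)) → Nat.card (zc (S : Subgroup G)) = 4 →
      ∀ (I : Type u) [Fintype I] [DecidableEq I] (N E : I → Subgroup G) (Om : I → Type u)
        [∀ i, Fintype (Om i)] [∀ i, DecidableEq (Om i)] (phi : ∀ i, Finset (Om i) → G), Bks S N E ⊥ Om phi →
        (∀ a b : I, a = b) → (∀ b, Fintype.card (Om b) = 7) → IsKnownSimple' G

/-- **`WOneS QK` is the case of one block of seven letters.** -/
theorem wOneS {B : Fr.{u}} (h7 : Seven B) : WOneS QK.{u} B := by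
  intro G _ _ hK S hB hW hm hCM I _ _ N E Om _ _ phi hbk
  have hZS : ∀ z ∈ zc (S : Subgroup G), ∀ s ∈ (S : Subgroup G), s * z * s⁻¹ = z := by
    intro z hz s hs
    rw [← (Cfsg.Agent.MinSimple.VModule.mem_zc.1 hz).2.1 s hs |>.symm]
    group
  have hirr : ∀ b, MZ (S : Subgroup G) ≤ normalizer (N b : Set G) → Wd (S : Subgroup G) ≤ N b := fun b hb =>
    hCM.irr PUnit.unit (N b) (hbk.toDec.NU b) hb (hbk.toDec.ne b)
  have hZV : zc (S : Subgroup G) ≤ Wd (S : Subgroup G) := Cfsg.Agent.MinSimple.VModule.zc_le_zl _ _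
  rcases hW.wd with ⟨P, hP, hw⟩ | ⟨h4, -⟩
  · exact (absurd_wide (three hK) hbk.toFull hbk.nonempty hirr hZV hZS (le_sSup hP) hP.le hP.exists_max hw).elim
  · obtain ⟨h1, h2⟩ := one_seven (three hK) hbk.toFull hbk.nonempty hirr hZV hZS h4.ge
    exact h7 G hK S hB hW hm hCM h4 I N E Om phi hbk h1 h2

/-- **The sockets of `WideAll QK` and `FourOf QK` which are left** (`WLeftMany`, `WOneMany` are void, `WOneS` is
`Seven`). -/
structure WideIn (B : Fr.{u}) : Prop where
  cm : CMThm.{u}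
  noMv : WNoMv QK.{u} B
  run : WRun QK.{u} B
  leftBlk : LeftBlk.{u}
  leftAll : LeftAll B
  leftPerm : LeftPerm B
  leftOne : WLeftOne QK.{u} B
  leftFld : WLeftFld QK.{u} B
  oneBlk : OneBlk.{u}
  seven : Seven B
  oneOne : WOneOne QK.{u} B
  oneTwo : WOneTwo QK.{u} B

theorem WideIn.all {B : Fr.{u}} (h : WideIn B) :
    ∀ (G : Type u) [Group G] [Finite G], QK G → ∀ (S : Sylow 2 G), B G S → Wide S → IsKnownSimple' G :=
  all_of h.cm h.noMv (wMul_of h.leftBlk h.leftAll h.leftPerm h.run h.leftOne h.leftFld WideQ.wLeftMany)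
    (wOne_of h.oneBlk (wOneS h.seven) h.oneOne h.oneTwo WideQ.wOneMany)

theorem WideIn.wideAll {B : Fr.{u}} (h : WideIn B)
    (hb : ∀ (G : Type u) [Group G] [Finite G] (S : Sylow 2 G), B G S → NOThreeL.RTree.RB S) : WideAll QK.{u} B :=
  fun G _ _ hK S hB hr hwd => h.all G hK S hB { toRB := hb G S hB, rr := hr, wd := Or.inl hwd }

theorem WideIn.fourOf {B : Fr.{u}} (h : WideIn B)
    (hb : ∀ (G : Type u) [Group G] [Finite G] (S : Sylow 2 G), B G S → NOThreeL.RTree.RB S) : FourOf QK.{u} B :=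
  fun G _ _ hK S hB hr _ h4 hn _ => h.all G hK S hB { toRB := hb G S hB, rr := hr, wd := Or.inr ⟨h4, hn⟩ }

end Cfsg.Agent.Omega.SQT.WideS
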