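import Cfsg.Agent.Omega.Node.NO3LOpen
import Cfsg.Agent.Omega.SQT.WideS

/-!
# Project SQT: the open sockets of NO-3L over `QK`

`OpenRQ` : the sockets of `Node/NO3LOpen.lean` (helper597) which are needed for `m_p(G) ≤ 2`: `leftMany`, `oneMany` are
void, `oneS` is the case of one block of seven letters (helper949).  `OpenRQ.toR : OpenR QK` (the proof does not name
the fields of `OpenR`).
-/

set_option autoImplicit false
set_option linter.unusedTactic false
set_option linter.unreachableTactic false

namespace Cfsg.Agent.Omega.SQT.RQ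

open Cfsg Cfsg.Agent.Omega.Frame Cfsg.Agent.Omega.NOThreeL
open Cfsg.Agent.Omega.NOThreeL.RRed Cfsg.Agent.Omega.NOThreeL.RRed.GlueSig
open Cfsg.Agent.Omega.Node.NO3LOpen (BF OpenR)
open Cfsg.Agent.Omega.SQT.Main (QK)

universe u

/-- **The open sockets of the leaf NO-3L, over `QK`.** -/
structure OpenRQ : Prop where
  /-- `C_Z(E₁) ≠ 1` -/
  nr : NrOf QK.{u} EOne.E1Fr
  /-- some `z` is moved by inactive `P` only -/
  noMv : WideTree.WNoMv QK.{u} BF
  /-- two classes, not the left case -/
  run : WideTree.WRun QK.{u} BF
  /-- natural blocks in the left case -/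
  blk : WideTree.LeftBlk.{u}
  /-- `𝒜(O)` moves every block -/
  all : WideTree.LeftAll BF.{u}
  /-- two blocks, fields -/
  leftFld : WideTree.WLeftFld QK.{u} BF
  /-- one class: the block theorem -/
  oneBlk : WideTree.OneBlk.{u}
  /-- one block of seven letters -/
  seven : WideS.Seven.{u} BF
  /-- one class, two natural blocks -/
  oneTwo : WideTree.WOneTwo QK.{u} BF

theorem OpenRQ.toR (I : OpenRQ.{u}) : OpenR QK.{u} := by
  constructor
  all_goals first
    | exact I.nr
    | exact I.noMv
    | exact I.run
    | exact I.blk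
    | exact I.all
    | exact I.leftFld
    | exact WideQ.wLeftMany
    | exact I.oneBlk
    | exact WideS.wOneS I.seven
    | exact I.oneTwo
    | exact WideQ.wOneMany

end Cfsg.Agent.Omega.SQT.RQ
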