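import Cfsg.Agent.Omega.SQT.FFour
import Cfsg.Agent.Omega.SQT.CvNs
import Cfsg.Agent.Omega.IId.CvBig.Cut
import Cfsg.Agent.Omega.F4Leaf.NoWrFree

/-!
# II.b', II.d: the inputs `MemH2`, `BigIn` are void in the strongly quasithin case
-/

set_option autoImplicit false

namespace Cfsg.Agent.Omega.SQT.VoidD

open Subgroup Cfsg Cfsg.Agent.Omega Cfsg.Agent.Omega.Frame
open Cfsg.Agent.Omega.SQT.Main (QK)
open Cfsg.Agent.Omega.SQT.Multi (three)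

universe u

/-- void -/
theorem memH2 : F4Leaf.NoWrFree.MemH2 QK.{u} := by
  intro G _ _ hG hq S _ _ _ P₁ P₂ y m A ε hm hl _ _ _
  have := FFour.split_lt hG.char2 S hl.pair.star₁ hl.split (three hq)
  omega

theorem two_of {G : Type u} [Group G] [Finite G] {S : Sylow 2 G} (hH : IId.Cv.HypN QK S) {P V D : Subgroup G}
    {F : Type} [Field F] [Finite F] [CharP F 2] {k : ℕ} (M : IId.NatD F S P V D k) (hk : 2 < k) : False := by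
  have := CvQ.natD_le M (three hH.cls)
  omega

/-- void -/
theorem bigIn : IId.Cv.BigIn QK.{u} where
  mix _ _ _ _ _ hH _ _ _ _ _ _ _ _ _ _ _ _ _ _ _ _ _ M _ hk _ _ _ _ _ _ _ _ _ := (two_of hH M hk).elim
  a2 _ _ _ _ hH _ _ _ _ _ _ _ _ M hk _ _ _ _ _ := (two_of hH M hk).elim
  a4 _ _ _ _ hH _ _ _ _ _ _ _ _ M hk _ _ _ _ _ := (two_of hH M hk).elim
  u2 _ _ _ _ hH _ _ _ _ _ _ _ _ M hk _ _ _ _ _ _ _ _ := two_of hH M hk
  u4 _ _ _ _ hH _ _ _ _ _ _ _ _ M hk _ _ _ _ _ _ _ _ := two_of hH M hk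
  us2 _ _ _ _ hH _ _ _ _ _ _ _ _ M hk _ _ _ _ _ _ _ := (two_of hH M hk).elim
  us4 _ _ _ _ hH _ _ _ _ _ _ _ _ M hk _ _ _ _ _ _ _ := (two_of hH M hk).elim
  one2 _ _ _ _ _ hH _ _ _ _ _ _ _ _ _ _ _ _ _ _ _ _ M _ hk _ _ _ _ _ _ _ := (two_of hH M hk).elim
  one4 _ _ _ _ _ hH _ _ _ _ _ _ _ _ _ _ _ _ _ _ _ _ M _ hk _ _ _ _ _ _ _ := (two_of hH M hk).elim

/-- The open Props of `WrCvN QK` are closed. -/
theorem bigHolds : IId.Cv.CvNonsplit QK.{u} ∧ IId.Cv.BigIn QK.{u} := ⟨CvNs.cvNonsplit, bigIn⟩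

end Cfsg.Agent.Omega.SQT.VoidD
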