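import Cfsg.Agent.Omega.NOThreeL.RRed.FourTwoO
import Cfsg.Agent.Omega.NOThreeL.RRed.FourRank
import Cfsg.Agent.Omega.NOThreeL.RRed.FourThree
import Cfsg.Agent.Omega.NoFF.LinesPlug
import Cfsg.Agent.Omega.SQT.NoThree
import Cfsg.Agent.Omega.SQT.Main
import Cfsg.Agent.Omega.SQT.Multi

/-!
# Project SQT: the socket `FourOf` over `QK` (cut of helper673)

`RR S = 1`, `|Z| = 4`, `m_3(G) ≤ 2`.  `Dec.small` (949): at most two blocks, of at most five letters if there are two,
of at most seven letters if there is one.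

* `no_k2` : two `S`-orbits of blocks (so two blocks): there is no (K2) in `P*(S)`;
* **`seven`** : `R₀ = 1` implies that there is one block, and it has seven letters;
* **`fourQ`** : `FourOf QK B` from `FourFld` (fields), `FourSeven` (one block of seven letters) and `FourRest`
  (`R₀ ≠ 1`); the sockets `FourJ`, `FourTwo` are not needed.
-/

set_option autoImplicit false
set_option linter.unusedSectionVars false

namespace Cfsg.Agent.Omega.SQT.FourQ

open Subgroup Cfsg Cfsg.Agent.ZN Cfsg.Agent.Omega.MinPar Cfsg.Agent.Omega.Frame Cfsg.Agent.Omega.FrameNOFF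
open Cfsg.Agent.Omega.Node.NO3L Cfsg.Agent.Omega.NOThreeL.Basic Cfsg.Agent.Omega.NOThreeL.RTree
open Cfsg.Agent.Omega.NOThreeL.Merge (MZ)
open Cfsg.Agent.Omega.KL.TwoS (Rel Lett)
open Cfsg.Agent.Omega.NOThreeL.RRed
open Cfsg.Agent.Omega.NOThreeL.RTreeF
open Cfsg.Agent.Omega.NOThreeL.RRed.FourTree
open Cfsg.Agent.Omega.NOThreeL.RRed.Blk
open Cfsg.Agent.Omega.NOThreeL.RRed.GlueSig (FourOf Fr)
open Cfsg.Agent.Omega.SQT.Main (QK)
open Cfsg.Agent.MinSimple.VModule (oddGen)
open scoped Pointwise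

universe u

section perm

variable {G : Type u} [Group G] {I : Type u} {S L U R₀ : Subgroup G} {N E : I → Subgroup G}

/-- at most two blocks: squares fix the blocks -/
theorem sq_fix (D : Dec S L U N E R₀) (h2 : ∀ a b c : I, a ≠ b → a ≠ c → b ≠ c → False) {g : G} (hg : g ∈ L)
    (b : I) : MulAut.conj (g * g) • N b = N b := by
  obtain ⟨c, hc, -⟩ := D.perm g hg b
  obtain ⟨d, hd, -⟩ := D.perm g hg c
  have e : MulAut.conj (g * g) • N b = N d := by rw [map_mul, mul_smul, hc, hd]
  by_cases hcb : c = b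
  · subst hcb
    rw [e, ← hd, hc]
  · by_cases hdb : d = b
    · rw [e, hdb]
    · have hdc : d ≠ c := by
        rintro rfl
        exact hcb (D.Ninj (smul_left_cancel _ (hc.trans hd.symm))).symm
      exact (h2 b c d (Ne.symm hcb) (Ne.symm hdb) (Ne.symm hdc)).elim

/-- at most two blocks: elements of odd order fix the blocks -/
theorem odd_fix (D : Dec S L U N E R₀) (h2 : ∀ a b c : I, a ≠ b → a ≠ c → b ≠ c → False) {g : G} (hg : g ∈ L)
    (ho : Odd (orderOf g)) (b : I) : MulAut.conj g • N b = N b := by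
  obtain ⟨j, hj⟩ := ho
  have h1 : (g * g) ^ (j + 1) = g := by
    rw [← pow_two, ← pow_mul, show 2 * (j + 1) = orderOf g + 1 by omega, pow_succ, pow_orderOf_eq_one, one_mul]
  have h3 : MulAut.conj (g * g) ∈ MulAction.stabilizer (MulAut G) (N b) :=
    MulAction.mem_stabilizer_iff.2 (sq_fix D h2 hg b)
  have h4 := pow_mem h3 (j + 1)
  rw [← map_pow, h1] at h4
  exact MulAction.mem_stabilizer_iff.1 h4

end perm

section two

variable {G : Type u} [Group G] [Finite G] {S : Sylow 2 G} {I : Type u} [Finite I] {N E : I → Subgroup G}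
  {z : I → G} {O : Fin 2 → Set I} {v : Fin 2 → G}

/-- two orbits, at most two blocks: every orbit consists of one block -/
theorem orb_one (t : TwoO S (MZ (S : Subgroup G)) (Wd (S : Subgroup G)) N E ⊥ z O v)
    (h2 : ∀ a b c : I, a ≠ b → a ≠ c → b ≠ c → False) {i : Fin 2} {b c : I} (hb : b ∈ O i) (hc : c ∈ O i) :
    c = b := by
  by_contra hne
  obtain ⟨d, hd⟩ := (t.orb (i + 1)).ne
  have hij : i ≠ i + 1 := OM.KTwo.ne_add_one i
  exact h2 c b d hne (fun e => t.notMem hij hc (e ▸ hd)) fun e => t.notMem hij hb (e ▸ hd)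

/-- then `v i = z b` -/
theorem v_eq (t : TwoO S (MZ (S : Subgroup G)) (Wd (S : Subgroup G)) N E ⊥ z O v)
    (h2 : ∀ a b c : I, a ≠ b → a ≠ c → b ≠ c → False) {i : Fin 2} {b : I} (hb : b ∈ O i) : v i = z b := by
  have h1 : v i ∈ N b := by
    have h3 : (⨆ c ∈ O i, N c) ≤ N b := iSup₂_le fun c hc => by rw [orb_one t h2 hb hc]
    exact h3 (t.vV i)
  exact t.dec.uniq (t.dec.comp_self h1) (t.comp i hb)

/-- **Two orbits of blocks, at most two blocks: no (K2) in `P*(S)`.** -/
theorem no_k2 (h : Four S) (t : TwoO S (MZ (S : Subgroup G)) (Wd (S : Subgroup G)) N E ⊥ z O v)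
    (h2 : ∀ a b c : I, a ≠ b → a ≠ c → b ≠ c → False) (R : Subgroup G) (hR : IsParS (S : Subgroup G) R) :
    ¬ R ≤ normalizer (((S : Subgroup G) ⊓ ⨆ b, E b : Subgroup G) : Set G) := by
  intro hn
  have hfix : ∀ i : Fin 2, R ≤ centralizer ({v i} : Set G) := by
    intro i
    obtain ⟨b, hb⟩ := (t.orb i).ne
    rw [← NoFF.LinesPlug.oddGen_sup hR.le (MinSimple.Basic.not_dvd_relIndex S hR.le)]
    refine sup_le ?_ (TwoO.le_cent_iff.2 (t.vS i))
    rw [MinSimple.VModule.oddGen_def, closure_le]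
    rintro g ⟨hg, ho⟩
    have h1 := t.dec.k2 t.one (NOThreeL.Merge.le_MZ hR hg) (hn hg) (odd_fix t.dec h2 (NOThreeL.Merge.le_MZ hR hg) ho b)
    rw [← v_eq t h2 hb] at h1
    rw [SetLike.mem_coe, mem_centralizer_singleton_iff]
    calc g * v i = (g * v i * g⁻¹) * g := by group
      _ = v i * g := by rw [h1]
  have hne : v 0 ≠ v 1 := by
    obtain ⟨b, hb⟩ := (t.orb 0).ne
    intro e
    have h1 := t.comp 0 hb
    rw [e] at h1
    exact t.one.z1 b (t.dec.uniq h1 (t.comp' 1 (t.dis b hb)))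
  refine hR.not_zc (le_trans (fun r hr => ?_) (centralizer_le_normalizer _))
  have h0 := mem_centralizer_singleton_iff.1 (hfix 0 hr)
  have h1 := mem_centralizer_singleton_iff.1 (hfix 1 hr)
  refine mem_centralizer_iff.2 fun w hw => ?_
  rcases four_of h.z4 (FourTwoO.v_zc h.toRB t 0) (FourTwoO.v_zc h.toRB t 1) (t.v1 0) (t.v1 1) hne
    (wsq h.toRB _ (t.VU 1 (t.vV 1))) hw with rfl | rfl | rfl | rfl
  · rw [one_mul, mul_one]
  · exact h0.symm
  · exact h1.symm
  · rw [mul_assoc, ← h1, ← mul_assoc, ← h0, mul_assoc]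

end two

section main

variable {G : Type u} [Group G] [Finite G] {S : Sylow 2 G} {I : Type u} [Fintype I] {N E : I → Subgroup G}
  {Om : I → Type u} [∀ i, Fintype (Om i)] [∀ i, DecidableEq (Om i)] {phi : ∀ i, Finset (Om i) → G}

/-- **`R₀ = 1`, `m_3(G) ≤ 2`: there is one block, and it has seven letters.** -/
theorem seven (hML : ML.Final.MLK.{u, u}) (hE : ML.Ex.Two.Ext.{u, u}) (hr : PRankLE 3 2 G) (h : Four S)
    (hB : Bks S N E ⊥ Om phi) : (∀ a b : I, a = b) ∧ ∀ b, Fintype.card (Om b) = 7 := by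
  classical
  obtain ⟨h3, h5, h7⟩ := NoThree.small hr hB.toDec (fun b => hB.lett b) fun b => hB.three b
  rcases FourTwoO.cases_bks h hB with ⟨-, z, O, v, t⟩ | ⟨hne, -⟩ | ⟨-, ht⟩
  · exfalso
    have hno := no_k2 h t h3
    have hc3 : ∀ b, Fintype.card (Om b) = 3 := by
      intro b
      have hlt : ¬ 4 ≤ Fintype.card (Om b) := by
        intro h4
        rcases t.cov b with hb | hb
        · exact FourTwoO.false_of_big h hML hE hB hno t hb (fun c hc => orb_one t h3 hb hc) h4
        · exact FourTwoO.false_of_big h hML hE hB hno t hb (fun c hc => orb_one t h3 hb hc) h4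
      rcases h7 b with e | e | e
      · exact e
      · omega
      · omega
    refine FourThree.not_two h hB ⟨?_, hc3⟩
    obtain ⟨b, hb⟩ := (t.orb 0).ne
    obtain ⟨c, hc⟩ := (t.orb 1).ne
    have hbc : b ≠ c := fun e => t.dis b hb (e ▸ hc)
    have huniv : (Finset.univ : Finset I) = {b, c} := by
      ext d
      simp only [Finset.mem_univ, Finset.mem_insert, Finset.mem_singleton, true_iff]
      by_contra hcon
      rw [not_or] at hcon
      exact h3 d b c hcon.1 hcon.2 hbc
    rw [← Finset.card_univ, huniv, Finset.card_pair hbc]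
  · exact absurd rfl hne
  · have h4 : Nat.card (Wd (S : Subgroup G) ⊓ centralizer ((S : Subgroup G) : Set G) : Subgroup G) = 4 := by
      rw [FourTwoO.zc_eq h.toRB]
      exact h.z4
    have hall : ∀ b, Fintype.card (Om b) = 7 := by
      intro b
      rcases h7 b with e | e | e
      · have := FourRank.card_le_two hB.toFull (b := b) (m := 1) le_rfl (by rw [e]; norm_num) fun c => ht c b
        omega
      · have := FourRank.card_le_two hB.toFull (b := b) (m := 2) (by norm_num) (by rw [e]; norm_num)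
          fun c => ht c b
        omega
      · exact e
    refine ⟨fun a b => ?_, hall⟩
    by_contra hab
    have := hall a
    rcases h5 a b hab with e | e <;> omega

end main

section sockets

/-- `R₀ = 1`, one block, seven letters: `V* = 2^6`, `M₀` induces `S₇`, `Z = ⟨12, 3456⟩`. -/
def FourSeven (K : Cls.{u}) (B : Fr.{u}) : Prop :=
  ∀ (G : Type u) [Group G] [Finite G], K G → ∀ (S : Sylow 2 G), B G S → Four S → ¬ Fld S →
    ∀ (I : Type u) [Fintype I] [DecidableEq I] (N E : I → Subgroup G) (Om : I → Type u)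
      [∀ i, Fintype (Om i)] [∀ i, DecidableEq (Om i)] (phi : ∀ i, Finset (Om i) → G), Bks S N E ⊥ Om phi →
      (∀ a b : I, a = b) → (∀ b, Fintype.card (Om b) = 7) → IsKnownSimple' G

/-- **`FourOf` over `QK`** -/
theorem fourQ (hML : ML.Final.MLK.{u, u}) (hE : ML.Ex.Two.Ext.{u, u}) {B : Fr.{u}}
    (hb : ∀ (G : Type u) [Group G] [Finite G] (S : Sylow 2 G), B G S → RB S)
    (hf : FourFld QK B) (h7 : FourSeven QK B) (h0 : FourRest QK B) : FourOf QK B :=
  fourOf_of hb hf
    (fun G _ _ hq S hB h hF I _ _ N E Om _ _ phi hBk _ => by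
      obtain ⟨h1, h2⟩ := seven hML hE (Multi.three hq) h hBk
      exact h7 G hq S hB h hF I N E Om phi hBk h1 h2)
    (fun G _ _ hq S hB h hF I _ _ N E Om _ _ phi hBk _ => by
      obtain ⟨h1, h2⟩ := seven hML hE (Multi.three hq) h hBk
      exact h7 G hq S hB h hF I N E Om phi hBk h1 h2)
    h0

end sockets

end Cfsg.Agent.Omega.SQT.FourQ
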