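import Cfsg.Agent.Omega.Node.NO3SGam
import Cfsg.Agent.Omega.SQT.Lev

/-!
# The FF-ends over a frame in the strongly quasithin case (helper673)

`EndsQ H` : what is left of `EndsO QK H` (`Node/NO3SGam.lean`) for `m₃(G) ≤ 2`, `H` any frame with `HypF`: two natural
factors (`MultiTwoH2`, `MultiQH2`), two factors `S₅` (`SymTwoH2`); `S_{2^m+1}`, `m ≥ 3`, is void.
`EndsQ.toO`; `endsQ_caseL`, `endsQ_five`.
-/

set_option autoImplicit false

namespace Cfsg.Agent.Omega.SQT.GamQ

open Subgroup Cfsg Cfsg.Agent.ZN Cfsg.Agent.Omega.MinPar Cfsg.Agent.Omega.Frame Cfsg.Agent.Omega.FrameNOFF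
open Cfsg.Agent.Omega.FrameFF (cv)
open Cfsg.Agent.Omega.FFThm (NatKM SymKM)
open Cfsg.Agent.Omega.NO3S
open Cfsg.Agent.Omega.NO3S.Level
open Cfsg.Agent.Omega.SQT.Main (QK)
open Cfsg.Agent.Omega.SQT.Multi (three)

universe u

/-- Two natural `SL₂(2)`-modules. -/
def MultiTwoH2 (H : FrP.{u}) : Prop :=
  ∀ (G : Type u) [Group G] [Finite G], Quasithin.StrQ G → ∀ (S : Sylow 2 G) (P : Subgroup G), H G S P →
    ∀ (F : Type) [Field F] [Finite F] [CharP F 2], Nat.card F = 2 →
      NatKM F (S : Subgroup G) P (zl (S : Subgroup G) P) (cv (S : Subgroup G) P) 2 → IsKnownSimple' G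

/-- Two natural `SL₂(q)`-modules, `q ≥ 4`. -/
def MultiQH2 (H : FrP.{u}) : Prop :=
  ∀ (G : Type u) [Group G] [Finite G], Quasithin.StrQ G → ∀ (S : Sylow 2 G) (P : Subgroup G), H G S P →
    ∀ (F : Type) [Field F] [Finite F] [CharP F 2], 4 ≤ Nat.card F →
      NatKM F (S : Subgroup G) P (zl (S : Subgroup G) P) (cv (S : Subgroup G) P) 2 → IsKnownSimple' G

/-- Two even-subset modules of `S₅`. -/
def SymTwoH2 (H : FrP.{u}) : Prop :=
  ∀ (G : Type u) [Group G] [Finite G], Quasithin.StrQ G → ∀ (S : Sylow 2 G) (P : Subgroup G), H G S P →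
    SymKM (S : Subgroup G) P (zl (S : Subgroup G) P) (cv (S : Subgroup G) P) 2 2 → IsKnownSimple' G

/-- The frame contains `HypF`. -/
def HasF (H : FrP.{u}) : Prop :=
  ∀ (G : Type u) [Group G] [Finite G] (S : Sylow 2 G) (P : Subgroup G), H G S P → HypF S P

variable {H : FrP.{u}}

theorem multiTwoH (hH : HasF H) (h : MultiTwoH2 H) : MultiTwoH QK.{u} H := by
  intro G _ _ hq S P hP F _ _ _ k hk hc M
  have hF := hH G S P hP
  have h1 := Rank.natK_le hF.ctx.char2 S hF.star M.toNatK (three hq)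
  obtain rfl : k = 2 := by omega
  exact h G hq S P hP F hc M

theorem multiQH (hH : HasF H) (h : MultiQH2 H) : MultiQH QK.{u} H := by
  intro G _ _ hq S P hP F _ _ _ k hk hc M
  have hF := hH G S P hP
  have h1 := Rank.natK_le hF.ctx.char2 S hF.star M.toNatK (three hq)
  obtain rfl : k = 2 := by omega
  exact h G hq S P hP F hc M

/-- void -/
theorem symBigH (hH : HasF H) : SymBigH QK.{u} H := by
  intro G _ _ hq S P hP m hm M
  have hF := hH G S P hP
  obtain ⟨-, h1⟩ := Rank.symK_le hF.ctx.char2 S hF.star M.toSymK (by omega) (three hq) le_rfl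
  omega

theorem symManyH (hH : HasF H) (h : SymTwoH2 H) : SymManyH QK.{u} H := by
  intro G _ _ hq S P hP k m hk hm M
  have hF := hH G S P hP
  obtain ⟨h1, rfl⟩ := Rank.symK_le hF.ctx.char2 S hF.star M.toSymK hm (three hq) (by omega)
  obtain rfl : k = 2 := by omega
  exact h G hq S P hP M

/-- **The FF-ends over a frame which are still open for `QK`.** -/
structure EndsQ (H : FrP.{u}) : Prop where
  red : RedH QK.{u} H
  multiTwo : MultiTwoH2 H
  multiQ : MultiQH2 H
  light : LightH QK.{u} H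
  symTwo : SymTwoH2 H

theorem EndsQ.toO (hH : HasF H) (E : EndsQ H) : EndsO QK.{u} H where
  red := E.red
  multiTwo := multiTwoH hH E.multiTwo
  multiQ := multiQH hH E.multiQ
  light := E.light
  symBig := symBigH hH
  symMany := symManyH hH E.symTwo

theorem endsO_caseL (E : EndsQ CaseLP.{u}) : EndsO QK.{u} CaseLP := E.toO caseLP_hypF

theorem endsO_five (E : EndsQ FiveP.{u}) : EndsO QK.{u} FiveP := E.toO fiveP_hypF

end Cfsg.Agent.Omega.SQT.GamQ
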