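import Cfsg.Agent.Omega.Node.MultiPlug
import Cfsg.Agent.Omega.TC.RSwap
import Cfsg.Agent.Omega.Node.MulG
import Cfsg.Agent.Omega.OM.SwapL.MainZ
import Cfsg.Agent.Omega.SQT.Lev

/-!
# `MultiTwoL`, `MultiQL` in the strongly quasithin case: only the sockets with `k = 2` (helper673)

For `QK` (`m₃(G) ≤ 2`) the rows `k ≥ 3` are void:

* `omNeg_mono2`, `omLev_mono2`, `eOf_mono2` : a condition `c` is needed only for `k = 2`;
* `LowTwo2`, `lowTwo` : `OM.SwapL.LowTwo QK` from `k = 2`;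
* `multiTwoL2_of`, `multiQL2_of` : from (Om), (E) for `k = 2`;
* **`multiTwoL2 (hML) (hKL : NoInp) (hU : UniLev QK) : MultiTwoL2`** ((Om) is closed, helper590);
  `multiTwoL2_of_e` : from (E) alone;
* **`multiQL2 (hE : EOf QK (k = 2 ∧ 4 ≤ q)) : MultiQL2`** ((Om) is closed);
* the same over the frames `H` of `Node/MulG.lean` : `eOfH_mono2`, `omOfH_mono2`, `multiTwoH2_of`, `multiQH2_of`.
-/

set_option autoImplicit false
set_option linter.unusedSectionVars false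

namespace Cfsg.Agent.Omega.SQT.MultiQ

open Subgroup Cfsg Cfsg.Agent.ZN.ChoiceBase
open Cfsg.Agent.ZN (jj zj bau zc zl o2)
open Cfsg.Agent.Omega.FFThm (NatKM)
open Cfsg.Agent.Omega.FrameFF (cv)
open Cfsg.Agent.Omega.NO3S (HypL HypF HypJ FrP)
open Cfsg.Agent.Omega.NO3S.Level (lev)
open Cfsg.Agent.Omega.Node.MultiOf
open Cfsg.Agent.Omega.Node.MulG (MulG OmOfH EOfH Frm)
open Cfsg.Agent.Omega.SQT.Main (QK)
open Cfsg.Agent.Omega.SQT.Multi (three)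
open Cfsg.Agent.Omega.SQT.Lev (MultiTwoL2 MultiQL2)

universe u

/-- `k ≤ 2` -/
theorem k_le {G : Type u} [Group G] [Finite G] (hq : Quasithin.StrQ G) {S : Sylow 2 G} {P : Subgroup G} (hP : HypF S P)
    {F : Type} [Field F] [Finite F] [CharP F 2] {k : ℕ}
    (N : NatKM F (S : Subgroup G) P (zl (S : Subgroup G) P) (cv (S : Subgroup G) P) k) : k ≤ 2 :=
  Rank.natK_le hP.ctx.char2 S hP.star N.toNatK (three hq)

/-! ### `HypL` -/

section hypL

variable {c d : ℕ → ℕ → Prop}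

theorem eOf_mono2 (h : ∀ q, d 2 q → c 2 q) (h1 : EOf QK.{u} c) : EOf QK.{u} d := by
  intro G _ _ hq S P K' B ZJ k L W Z C q hk hc hM hN
  obtain ⟨F, _, _, _, hF, ⟨N⟩⟩ := hM.nat
  have h2 := k_le hq hM.hyp.toHypF N
  obtain rfl : k = 2 := by omega
  exact h1 G hq S P K' B ZJ 2 L W Z C q hk (h q hc) hM hN

theorem omNeg_mono2 (h : ∀ q, d 2 q → c 2 q) (h1 : OmNeg QK.{u} c) : OmNeg QK.{u} d := by
  intro G _ _ hq S P k hH hJ hk F _ _ _ hc N ho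
  have h2 := k_le hq hH.toHypF N
  obtain rfl : k = 2 := by omega
  exact h1 G hq S P 2 hH hJ hk F (h _ hc) N ho

theorem omLev_mono2 (h : ∀ q, d 2 q → c 2 q) (h1 : OmLev QK.{u} c) : OmLev QK.{u} d := by
  intro G _ _ hq S P k hH n hall hn1 hk F _ _ _ hc N B ZJ e1 e2 ho
  have h2 := k_le hq hH.toHypF N
  obtain rfl : k = 2 := by omega
  exact h1 G hq S P 2 hH n hall hn1 hk F (h _ hc) N B ZJ e1 e2 ho

theorem omOf_mono2 (h : ∀ q, d 2 q → c 2 q) (h1 : OmOf QK.{u} c) : OmOf QK.{u} d := by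
  intro G _ _ hq S P K' B ZJ k L W Z C q hk hc hM h3 h4 h5
  obtain ⟨F, _, _, _, hF, ⟨N⟩⟩ := hM.nat
  have h2 := k_le hq hM.hyp.toHypF N
  obtain rfl : k = 2 := by omega
  exact h1 G hq S P K' B ZJ 2 L W Z C q hk (h q hc) hM h3 h4 h5

/-- **`MultiTwoL2`** from (Om) and (E) for `k = 2`, `q = 2`. -/
theorem multiTwoL2_of (hO : OmOf QK.{u} fun k q => k = 2 ∧ q = 2) (hE : EOf QK.{u} fun k q => k = 2 ∧ q = 2) :
    MultiTwoL2.{u} := by
  intro G _ _ hq S P h F _ _ _ hc N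
  exact known_of (c := fun k q => k = 2 ∧ q = 2) hO hE G hq S P h F 2 le_rfl ⟨rfl, hc⟩ N

/-- **`MultiQL2`** from (Om) and (E) for `k = 2`, `4 ≤ q`. -/
theorem multiQL2_of (hO : OmOf QK.{u} fun k q => k = 2 ∧ 4 ≤ q) (hE : EOf QK.{u} fun k q => k = 2 ∧ 4 ≤ q) :
    MultiQL2.{u} := by
  intro G _ _ hq S P h F _ _ _ hc N
  exact known_of (c := fun k q => k = 2 ∧ 4 ≤ q) hO hE G hq S P h F 2 le_rfl ⟨rfl, hc⟩ N

/-- **LL for `q = 2`, `k = 2`.** -/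
def LowTwo2 : Prop :=
  ∀ (G : Type u) [Group G] [Finite G], Quasithin.StrQ G → ∀ (S : Sylow 2 G) (P : Subgroup G), HypL S P → ∀ n : ℕ,
    (∀ R, MinPar.IsParS (S : Subgroup G) R → lev (S : Subgroup G) n ≤ o2 R) →
    ¬ lev (S : Subgroup G) (n + 1) ≤ o2 P →
    ∀ (F : Type) [Field F] [Finite F] [CharP F 2], Nat.card F = 2 →
      NatKM F (S : Subgroup G) P (zl (S : Subgroup G) P) (cv (S : Subgroup G) P) 2 →
        ∀ M : Subgroup G, KZ (OM.SwapL.BL (S : Subgroup G) n) (OM.SwapL.ZL (S : Subgroup G) n) ≤ M →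
          normalizer (OM.SwapL.BL (S : Subgroup G) n : Set G) ≤ M → o2 M ≠ ⊥ → OM.SwapL.Low S n M

theorem lowTwo (h : LowTwo2.{u}) : OM.SwapL.LowTwo QK.{u} := by
  intro G _ _ hq S P k hH n hall hn1 hk F _ _ _ hc N M h3 h4 h5
  have h2 := k_le hq hH.toHypF N
  obtain rfl : k = 2 := by omega
  exact h G hq S P hH n hall hn1 F hc N M h3 h4 h5

/-- **`MultiTwoL2`** from (E) for `k = 2`, `q = 2` ((Om) is closed). -/
theorem multiTwoL2_of_e (hE : EOf QK.{u} fun k q => k = 2 ∧ q = 2) : MultiTwoL2.{u} :=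
  multiTwoL2_of (omOf_mono2 (fun _ h => h.2) OM.SwapL.omOfZ_two) hE

/-- **`MultiTwoL2`** from its open inputs. -/
theorem multiTwoL2 (hML : ML.Final.MLK.{u, u}) (hKL : KL.Quo.NoInp.{u, u}) (hU : TC.OfMul.UniLev QK.{u}) :
    MultiTwoL2.{u} :=
  multiTwoL2_of_e (TC.OfMul.eOf_two FF.Glob.ffthm hU (TC.eFr_kl hML hKL))

/-- **`MultiQL2`** from its open input. -/
theorem multiQL2 (hE : EOf QK.{u} fun k q => k = 2 ∧ 4 ≤ q) : MultiQL2.{u} :=
  multiQL2_of (omOf_mono2 (fun _ h => h.2) Node.OmLevQ.omOf_q) hE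

end hypL

/-! ### The frames `H` -/

section frm

variable {H : FrP.{u}} {c d : ℕ → ℕ → Prop}

theorem eOfH_mono2 (h : ∀ q, d 2 q → c 2 q) (h1 : EOfH QK.{u} H c) : EOfH QK.{u} H d := by
  intro G _ _ hq S P K' B ZJ k L W Z C q hH hk hc hM hN
  obtain ⟨F, _, _, _, hF, ⟨N⟩⟩ := hM.nat
  have h2 := k_le hq hM.hyp N
  obtain rfl : k = 2 := by omega
  exact h1 G hq S P K' B ZJ 2 L W Z C q hH hk (h q hc) hM hN

theorem omOfH_mono2 (h : ∀ q, d 2 q → c 2 q) (h1 : OmOfH QK.{u} H c) : OmOfH QK.{u} H d := by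
  intro G _ _ hq S P K' B ZJ k L W Z C q hH hk hc hM h3 h4 h5
  obtain ⟨F, _, _, _, hF, ⟨N⟩⟩ := hM.nat
  have h2 := k_le hq hM.hyp N
  obtain rfl : k = 2 := by omega
  exact h1 G hq S P K' B ZJ 2 L W Z C q hH hk (h q hc) hM h3 h4 h5

/-- Two natural `SL₂(2)`-modules, over `H`, from (Om) and (E) for `k = 2`. -/
theorem multiTwoH2_of (hH : Frm H) (hO : OmOfH QK.{u} H fun k q => k = 2 ∧ q = 2)
    (hE : EOfH QK.{u} H fun k q => k = 2 ∧ q = 2) (G : Type u) [Group G] [Finite G] (hq : Quasithin.StrQ G)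
    (S : Sylow 2 G) (P : Subgroup G) (h : H G S P) (F : Type) [Field F] [Finite F] [CharP F 2] (hc : Nat.card F = 2)
    (N : NatKM F (S : Subgroup G) P (zl (S : Subgroup G) P) (cv (S : Subgroup G) P) 2) : IsKnownSimple' G :=
  Node.MulG.known_of hH (c := fun k q => k = 2 ∧ q = 2) hO hE G hq S P h F 2 le_rfl ⟨rfl, hc⟩ N

/-- Two natural `SL₂(q)`-modules, `q ≥ 4`, over `H`, from (Om) and (E) for `k = 2`. -/
theorem multiQH2_of (hH : Frm H) (hO : OmOfH QK.{u} H fun k q => k = 2 ∧ 4 ≤ q)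
    (hE : EOfH QK.{u} H fun k q => k = 2 ∧ 4 ≤ q) (G : Type u) [Group G] [Finite G] (hq : Quasithin.StrQ G)
    (S : Sylow 2 G) (P : Subgroup G) (h : H G S P) (F : Type) [Field F] [Finite F] [CharP F 2]
    (hc : 4 ≤ Nat.card F)
    (N : NatKM F (S : Subgroup G) P (zl (S : Subgroup G) P) (cv (S : Subgroup G) P) 2) : IsKnownSimple' G :=
  Node.MulG.known_of hH (c := fun k q => k = 2 ∧ 4 ≤ q) hO hE G hq S P h F 2 le_rfl ⟨rfl, hc⟩ N

end frm

end Cfsg.Agent.Omega.SQT.MultiQ
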