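import Cfsg.Agent.Omega.Node.NO3LMain
import Cfsg.Agent.Omega.SQT.Main
import Cfsg.Agent.Omega.SQT.Multi

/-!
# Project SQT, box R of NO-3L over `QK` (helper949)

* `RGIn` : the open inputs of box R over `QK` = `StrQ` besides `MLK`, `Ext` (the sockets of `Node/NO3LMain`, R-LOW,
  case (A), THEOREM SIGMA plugged in);
* `RGIn.rg` : `NOThreeL.Merge.RG QK`;
* `RGIn.sig`, `RGIn.node` : the leaf NO-3L over `QK`.
-/

set_option autoImplicit false

namespace Cfsg.Agent.Omega.SQT.RG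

open Subgroup Cfsg Cfsg.Agent.ZN Cfsg.Agent.Omega Cfsg.Agent.Omega.Frame Cfsg.Agent.Omega.MinPar
open Cfsg.Agent.Omega.SQT.Main (QK)
open Cfsg.Agent.Omega.NOThreeL
open Cfsg.Agent.Omega.NOThreeL.RRed.GlueSig

universe u

/-- **The open inputs of box R over `QK`.** -/
structure RGIn : Prop where
  /-- the smallest shape -/
  tcr : RRed.TCR QK.{u}
  /-- `|Z| = 4`, `Thin S`, some `|V_P| ≠ 8` -/
  four : FourOf QK.{u} FBF.{u}
  /-- some `|Z : C_Z(P)| ≥ 4` -/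
  wide : WideAll QK.{u} FBF.{u}
  /-- `RR S ≠ 1` -/
  br : BrTOf QK.{u} FBF.{u}

theorem RGIn.rg (ml : ML.Final.MLK.{u, u}) (hE : ML.Ex.Two.Ext.{u, u}) (I : RGIn.{u}) : Merge.RG QK.{u} := by
  have hσ : SigTOf QK.{u} FBF.{u} := SigTOf.mono toRB (sigTOf_of_rsig (Sigma.Rank.rsigT ml hE))
  have hs : SmOf QK.{u} FBF.{u} := SmOf.mono toRB (smOf I.tcr)
  exact Node.NO3LMain.rg_openF (Node.NO3LMain.raBig QK) (rbzFT_sig hσ hs I.four I.wide I.br)
    (rbcFT_sig hσ hs I.four I.wide)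

/-- The open sockets of the leaf NO-3L over `QK`. -/
theorem RGIn.sig (h : RTreeF.NotFFM QK.{u}) (I : RGIn.{u}) : Node.NO3LMain.OpenSig QK.{u} where
  notFFM := h
  tcr := I.tcr
  four := I.four
  wide := I.wide
  br := I.br

theorem RGIn.node (ml : ML.Final.MLK.{u, u}) (hE : ML.Ex.Two.Ext.{u, u}) (h : RTreeF.NotFFM QK.{u})
    (I : RGIn.{u}) : FrameNOFF.NodeNO3L QK.{u} := (I.sig h).node ml hE

end Cfsg.Agent.Omega.SQT.RG
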