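import Cfsg.Agent.Omega.Sec.Reduce
import Cfsg.Agent.MinSimple.Dihedral

/-!
# Ranks of groups with sections `S₃ × ⋯ × S₃`

* `le_of_inverted` : elements `y j` (`j : Fin n`) of order `p`, pairwise commuting, and `b j` inverting `y j` and
  centralising the others: `PRankLE p m` implies `n ≤ m`;
* `le_of_surj` : `φ : Γ →* S₃^n` surjective with kernel of odd order: `PRankLE 3 m Γ` implies `n ≤ m`
  (Thompson's dihedral lemma);
* `le_of_range` : `φ : Γ →* M`, `H : S₃^n →* M` injective with image in the image of `φ`, and a normal 2-subgroup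
  `Q ≤ ker φ` containing all 2-elements of `ker φ`: the same.
-/

set_option autoImplicit false

namespace Cfsg.Agent.Omega.SQT.RankAbs

open Subgroup Cfsg

/-- A family of `n` commuting elements of order `p`, separated by inverting elements, generates a group of
order `p ^ n`. -/
theorem le_of_inverted {G : Type*} [Group G] [Finite G] {p m n : ℕ} [hp : Fact p.Prime] (hp2 : p ≠ 2)
    (hr : PRankLE p m G) (b y : Fin n → G) (hy : ∀ j, orderOf (y j) = p)
    (hc : ∀ i j, y i * y j = y j * y i) (hinv : ∀ j, b j * y j * (b j)⁻¹ = (y j)⁻¹)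
    (hfix : ∀ i j, i ≠ j → b i * y j = y j * b i) : n ≤ m := by
  classical
  -- the homomorphism `(ZMod p)^n → G`
  have hcomm : Pairwise fun i j => ∀ (x : Multiplicative (ZMod p)) (z : Multiplicative (ZMod p)),
      Commute ((y i) ^ (Multiplicative.toAdd x).val) ((y j) ^ (Multiplicative.toAdd z).val) :=
    fun i j _ x z => (show Commute (y i) (y j) from hc i j).pow_pow _ _
  let f : Fin n → (Multiplicative (ZMod p) →* G) := fun j =>
    { toFun := fun x => (y j) ^ (Multiplicative.toAdd x).val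
      map_one' := by
        change (y j) ^ (0 : ZMod p).val = 1
        rw [ZMod.val_zero, pow_zero]
      map_mul' := by
        intro x z
        change (y j) ^ (Multiplicative.toAdd x + Multiplicative.toAdd z).val = _
        have h1 := pow_mod_orderOf (y j) ((Multiplicative.toAdd x).val + (Multiplicative.toAdd z).val)
        rw [hy j] at h1
        rw [ZMod.val_add, h1, pow_add] }
  let F : (Fin n → Multiplicative (ZMod p)) →* G := MonoidHom.noncommPiCoprod f hcomm
  have hFs : ∀ j (x : Multiplicative (ZMod p)), F (Pi.mulSingle j x) = f j x := fun j x =>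
    MonoidHom.noncommPiCoprod_mulSingle f j x
  -- conjugation by `b j`
  have hconj : ∀ j (g : Fin n → Multiplicative (ZMod p)),
      b j * F g * (b j)⁻¹ = F (Function.update g j (g j)⁻¹) := by
    intro j
    let c : (Fin n → Multiplicative (ZMod p)) →* (Fin n → Multiplicative (ZMod p)) :=
      { toFun := fun g => Function.update g j (g j)⁻¹
        map_one' := by
          ext i
          by_cases h : i = j
          · subst h; simp
          · simp [h]
        map_mul' := by
          intro g h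
          ext i
          by_cases hi : i = j
          · subst hi; simp [mul_comm]
          · simp [hi] }
    have h1 : ((MulAut.conj (b j)).toMonoidHom.comp F) = F.comp c := by
      refine MonoidHom.pi_ext fun i x => ?_
      change b j * F (Pi.mulSingle i x) * (b j)⁻¹ = F (c (Pi.mulSingle i x))
      rw [hFs]
      by_cases hij : i = j
      · subst hij
        have h2 : c (Pi.mulSingle i x) = Pi.mulSingle i x⁻¹ := by
          change Function.update (Pi.mulSingle i x : Fin n → Multiplicative (ZMod p)) i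
            ((Pi.mulSingle i x : Fin n → Multiplicative (ZMod p)) i)⁻¹ = _
          rw [Pi.mulSingle_eq_same]
          ext k
          by_cases hk : k = i
          · subst hk; simp
          · simp [hk]
        rw [h2, hFs, map_inv]
        change b i * (y i) ^ (Multiplicative.toAdd x).val * (b i)⁻¹ = ((y i) ^ (Multiplicative.toAdd x).val)⁻¹
        rw [← conj_pow, hinv, inv_pow]
      · have h2 : c (Pi.mulSingle i x) = Pi.mulSingle i x := by
          change Function.update (Pi.mulSingle i x : Fin n → Multiplicative (ZMod p)) j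
            ((Pi.mulSingle i x : Fin n → Multiplicative (ZMod p)) j)⁻¹ = _
          have h3 : (Pi.mulSingle i x : Fin n → Multiplicative (ZMod p)) j = 1 := by
            rw [Pi.mulSingle_apply, if_neg (Ne.symm hij)]
          rw [h3, inv_one]
          conv_lhs => rw [← h3]
          exact Function.update_eq_self _ _
        rw [h2, hFs]
        change b j * (y i) ^ (Multiplicative.toAdd x).val * (b j)⁻¹ = (y i) ^ (Multiplicative.toAdd x).val
        rw [← conj_pow, hfix j i (Ne.symm hij), mul_inv_cancel_right]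
    intro g
    exact DFunLike.congr_fun h1 g
  -- injectivity
  have hinj : Function.Injective F := by
    rw [injective_iff_map_eq_one]
    intro g hg
    ext j
    have h1 := hconj j g
    rw [hg, mul_one, mul_inv_cancel] at h1
    have h2 : F (g * (Function.update g j (g j)⁻¹)⁻¹) = 1 := by
      rw [map_mul, map_inv, hg, ← h1, inv_one, mul_one]
    have h3 : g * (Function.update g j (g j)⁻¹)⁻¹ = Pi.mulSingle j (g j * g j) := by
      ext i
      by_cases hi : i = j
      · subst hi; simp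
      · simp [hi]
    rw [h3, hFs] at h2
    change (y j) ^ (Multiplicative.toAdd (g j * g j)).val = 1 at h2
    have h4 := orderOf_dvd_of_pow_eq_one h2
    rw [hy j] at h4
    have h5 : (Multiplicative.toAdd (g j * g j)).val < p := ZMod.val_lt _
    have h6 : (Multiplicative.toAdd (g j * g j)).val = 0 := Nat.eq_zero_of_dvd_of_lt h4 h5
    have h7 : Multiplicative.toAdd (g j * g j) = 0 := (ZMod.val_eq_zero _).mp h6
    have h8 : (2 : ZMod p) * Multiplicative.toAdd (g j) = 0 := by
      rw [two_mul]; exact h7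
    have h9 : (2 : ZMod p) ≠ 0 := by
      intro h0
      have : (p : ℕ) ∣ 2 := by
        rw [← ZMod.natCast_eq_zero_iff]
        exact_mod_cast h0
      have := (Nat.prime_dvd_prime_iff_eq hp.out Nat.prime_two).mp this
      exact hp2 this
    rcases mul_eq_zero.mp h8 with h | h
    · exact absurd h h9
    · exact h
  have hcard : Nat.card F.range = p ^ n := by
    rw [← Nat.card_congr (MonoidHom.ofInjective hinj).toEquiv, Nat.card_pi]
    simp
  have h1 := hr F.range ⟨⟨by
    rintro ⟨_, x, rfl⟩ ⟨_, z, rfl⟩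
    apply Subtype.ext
    change F x * F z = F z * F x
    rw [← map_mul, ← map_mul, mul_comm]⟩⟩ (by
    rintro _ ⟨x, rfl⟩
    rw [← map_pow]
    have : x ^ p = 1 := by
      ext j
      change Multiplicative.toAdd ((x j) ^ p) = 0
      rw [toAdd_pow]
      simp
    rw [this, map_one])
  rw [hcard] at h1
  exact (Nat.pow_le_pow_iff_right hp.out.one_lt).mp h1

/-! ### Sections `S₃ × ⋯ × S₃` -/

theorem perm_eq_one : ∀ σ : Equiv.Perm (Fin 3), Equiv.Perm.sign σ = 1 → σ * σ = 1 → σ = 1 := by decide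

theorem perm_comm : ∀ σ τ : Equiv.Perm (Fin 3), Equiv.Perm.sign σ = 1 → Equiv.Perm.sign τ = 1 →
    σ * τ = τ * σ := by decide

theorem perm_sign : ∀ σ τ : Equiv.Perm (Fin 3), Equiv.Perm.sign σ = 1 → σ ≠ 1 → τ * σ = σ * τ →
    Equiv.Perm.sign τ = 1 := by decide

theorem exists_cyc : ∃ σ : Equiv.Perm (Fin 3), Equiv.Perm.sign σ = 1 ∧ σ ≠ 1 ∧ orderOf σ = 3 :=
  ⟨finRotate 3, by decide, by decide, orderOf_eq_prime (by decide) (by decide)⟩

/-- A group of 3-rank at most `m` has no section `S₃^n` with kernel of odd order, `n > m`. -/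
theorem le_of_surj {Γ : Type*} [Group Γ] [Finite Γ] {m n : ℕ} (hr : PRankLE 3 m Γ)
    (φ : Γ →* (Fin n → Equiv.Perm (Fin 3))) (hφ : Function.Surjective φ) (hk : Odd (Nat.card φ.ker)) :
    n ≤ m := by
  classical
  have h2 : Fact (Nat.Prime 2) := ⟨Nat.prime_two⟩
  have h3 : Fact (Nat.Prime 3) := ⟨Nat.prime_three⟩
  -- the signs
  let sg : (Fin n → Equiv.Perm (Fin 3)) →* (Fin n → ℤˣ) :=
    { toFun := fun σ j => Equiv.Perm.sign (σ j)
      map_one' := by ext j; simp
      map_mul' := by intro σ τ; ext j; simp }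
  have hsg : Function.Surjective sg := by
    intro s
    choose f hf using fun j => Equiv.Perm.sign_surjective (Fin 3) (s j)
    exact ⟨f, funext hf⟩
  set ψ : Γ →* (Fin n → ℤˣ) := sg.comp φ with hψ
  have hψs : Function.Surjective ψ := hsg.comp hφ
  set Y : Subgroup Γ := ψ.ker with hY
  have memY : ∀ g : Γ, g ∈ Y ↔ ∀ j, Equiv.Perm.sign (φ g j) = 1 := by
    intro g
    rw [hY, MonoidHom.mem_ker]
    constructor
    · intro h j
      exact congrFun h j
    · intro h
      exact funext h
  have hYi : Y.index = 2 ^ n := by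
    rw [hY, Subgroup.index_ker, MonoidHom.range_eq_top.mpr hψs, Subgroup.card_top, Nat.card_pi]
    simp
  -- `Y` has odd order
  have hYinv : ∀ y ∈ Y, y * y = 1 → y = 1 := by
    intro y hy hyy
    have h1 : φ y = 1 := by
      funext j
      refine perm_eq_one _ ((memY y).1 hy j) ?_
      have := congrFun (congrArg φ hyy) j
      rw [map_mul, map_one] at this
      exact this
    have h4 : (⟨y, MonoidHom.mem_ker.mpr h1⟩ : φ.ker) ^ 2 = 1 := by
      apply Subtype.ext
      change y ^ 2 = 1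
      rw [pow_two]; exact hyy
    have h5 := orderOf_dvd_of_pow_eq_one h4
    have h6 := orderOf_dvd_natCard (⟨y, MonoidHom.mem_ker.mpr h1⟩ : φ.ker)
    have h7 : orderOf (⟨y, MonoidHom.mem_ker.mpr h1⟩ : φ.ker) = 1 := by
      rcases (Nat.dvd_prime Nat.prime_two).mp h5 with h | h
      · exact h
      · rw [h] at h6
        exact absurd (even_iff_two_dvd.mpr h6) (Nat.not_even_iff_odd.mpr hk)
    exact congrArg Subtype.val (orderOf_eq_one_iff.mp h7)
  have hYodd : ∀ H : Subgroup Γ, H ≤ Y → Odd (Nat.card H) := by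
    intro H hH
    rw [← Nat.not_even_iff_odd]
    intro he
    obtain ⟨x, hx⟩ := exists_prime_orderOf_dvd_card' (G := H) 2 (even_iff_two_dvd.1 he)
    have h1 : (x : Γ) * x = 1 := by
      have h4 := pow_orderOf_eq_one x
      rw [hx, pow_two] at h4
      exact congrArg Subtype.val h4
    have h4 := hYinv x (hH x.2) h1
    rw [Subtype.ext (a1 := x) (a2 := 1) h4, orderOf_one] at hx
    norm_num at hx
  -- a Sylow 3-subgroup of `Y`
  obtain ⟨R0⟩ : Nonempty (Sylow 3 Y) := inferInstance
  set R : Subgroup Γ := (R0 : Subgroup Y).map Y.subtype with hR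
  have hRp : IsPGroup 3 R := R0.isPGroup'.map _
  have hRY : R ≤ Y := map_subtype_le _
  have hfr : normalizer (R : Set Γ) ⊔ Y = ⊤ := Sylow.normalizer_sup_eq_top R0
  -- `R` covers the 3-cycles
  have hcov : ∀ j, ∃ z ∈ R, Equiv.Perm.sign (φ z j) = 1 ∧ φ z j ≠ 1 := by
    intro j
    obtain ⟨c, hc1, hc2, hc3⟩ := exists_cyc
    obtain ⟨y, hy⟩ := hφ (Pi.mulSingle j c)
    have hyY : y ∈ Y := by
      rw [memY]
      intro i
      rw [hy]
      by_cases h : i = j
      · subst h; rw [Pi.mulSingle_eq_same]; exact hc1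
      · rw [Pi.mulSingle_apply, if_neg h, map_one]
    -- the 3-part of `y`
    obtain ⟨a, l, hl, hal⟩ := Nat.exists_eq_pow_mul_and_not_dvd (n := orderOf y) (orderOf_pos y).ne' 3
      (by norm_num)
    set x : Γ := y ^ l with hx
    have hx3 : x ^ 3 ^ a = 1 := by
      rw [hx, ← pow_mul, mul_comm, ← hal, pow_orderOf_eq_one]
    have hxY : x ∈ Y := Y.pow_mem hyY l
    have hxp : IsPGroup 3 (zpowers (⟨x, hxY⟩ : Y)) := by
      rw [IsPGroup.iff_card, Nat.card_zpowers]
      have h4 : orderOf (⟨x, hxY⟩ : Y) ∣ 3 ^ a := orderOf_dvd_of_pow_eq_one (Subtype.ext hx3)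
      obtain ⟨k, -, hk⟩ := (Nat.dvd_prime_pow Nat.prime_three).1 h4
      exact ⟨k, hk⟩
    obtain ⟨T, hT⟩ := hxp.exists_le_sylow
    obtain ⟨g, hg⟩ := MulAction.exists_smul_eq Y T R0
    have h5 : g * ⟨x, hxY⟩ * g⁻¹ ∈ (R0 : Subgroup Y) := by
      rw [← hg]
      exact Subgroup.smul_mem_pointwise_smul _ (MulAut.conj g) (T : Subgroup Y) (hT (mem_zpowers _))
    refine ⟨(g : Γ) * x * (g : Γ)⁻¹, ⟨_, h5, rfl⟩, ?_⟩
    have h6 : φ ((g : Γ) * x * (g : Γ)⁻¹) j = c ^ l := by
      rw [map_mul, map_mul, map_inv, hx, map_pow, hy]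
      change φ g j * ((Pi.mulSingle j c : Fin n → Equiv.Perm (Fin 3)) ^ l) j * (φ g j)⁻¹ = c ^ l
      rw [Pi.pow_apply, Pi.mulSingle_eq_same]
      have h7 : Equiv.Perm.sign (φ g j) = 1 := (memY g).1 g.2 j
      have h8 : Equiv.Perm.sign (c ^ l) = 1 := by rw [map_pow, hc1, one_pow]
      rw [perm_comm _ _ h7 h8, mul_inv_cancel_right]
    refine ⟨by rw [h6, map_pow, hc1, one_pow], ?_⟩
    rw [h6]
    intro h7
    have h8 := orderOf_dvd_of_pow_eq_one h7
    rw [hc3] at h8
    exact hl h8
  -- a Sylow 2-subgroup of `N(R)`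
  set N : Subgroup Γ := normalizer (R : Set Γ) with hN
  obtain ⟨B0⟩ : Nonempty (Sylow 2 N) := inferInstance
  set B : Subgroup Γ := (B0 : Subgroup N).map N.subtype with hB
  have hBN : B ≤ N := map_subtype_le _
  have hBp : IsPGroup 2 B := B0.isPGroup'.map _
  have hBY : ∀ b ∈ B, b ∈ Y → b = 1 := by
    intro b hb hbY
    obtain ⟨k, hk'⟩ := hBp ⟨b, hb⟩
    have hbk : b ^ 2 ^ k = 1 := congrArg Subtype.val hk'
    have h4 : orderOf b ∣ 2 ^ k := orderOf_dvd_of_pow_eq_one hbk
    have h5 : orderOf b ∣ Nat.card Y := by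
      have := orderOf_dvd_natCard (⟨b, hbY⟩ : Y)
      rwa [Subgroup.orderOf_mk] at this
    have h6 : (Nat.card Y).Coprime (2 ^ k) :=
      Nat.Coprime.pow_right k ((hYodd Y le_rfl).coprime_two_right)
    have h7 : orderOf b ∣ 1 := by rw [← h6]; exact Nat.dvd_gcd h5 h4
    exact orderOf_eq_one_iff.mp (Nat.dvd_one.mp h7)
  have hBsq : ∀ b ∈ B, b * b = 1 := by
    intro b hb
    refine hBY _ (B.mul_mem hb hb) ?_
    rw [memY]
    intro j
    rw [map_mul, Pi.mul_apply, map_mul]
    exact Int.units_mul_self _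
  have hBf : ∀ b ∈ B, (∀ r ∈ R, b * r = r * b) → b = 1 := by
    intro b hb hc
    refine hBY b hb ((memY b).2 fun j => ?_)
    obtain ⟨z, hz, hz1, hz2⟩ := hcov j
    refine perm_sign (φ z j) (φ b j) hz1 hz2 ?_
    have := congrFun (congrArg φ (hc z hz)) j
    rw [map_mul, map_mul] at this
    exact this
  -- the order of `B`
  have hBcard : Nat.card B = 2 ^ n := by
    have h5 : Y.relIndex N = 2 ^ n := by
      have h6 := relIndex_sup_right (H := N) (K := Y)
      rw [hfr, relIndex_top_right, hYi] at h6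
      exact h6.symm
    have h4 : Nat.card N = 2 ^ n * Nat.card (Y.subgroupOf N) := by
      have h6 := (Y.subgroupOf N).card_mul_index
      rw [← h6, mul_comm]
      congr 1
    have h6 : Odd (Nat.card (Y.subgroupOf N)) := by
      have h7 : Nat.card (Y.subgroupOf N) = Nat.card ↥(Y ⊓ N) := by
        rw [← Subgroup.card_map_of_injective (Subgroup.subtype_injective N)]
        rw [Subgroup.subgroupOf_map_subtype]
      rw [h7]
      exact hYodd _ inf_le_left
    have h7 : Nat.card B = Nat.card (B0 : Subgroup N) := by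
      rw [hB]
      exact Subgroup.card_map_of_injective (Subgroup.subtype_injective N)
    rw [h7, B0.card_eq_multiplicity, h4]
    congr 1
    have h8 : ¬ 2 ∣ Nat.card (Y.subgroupOf N) := fun h => (Nat.not_even_iff_odd.mpr h6) (even_iff_two_dvd.mpr h)
    rw [Nat.factorization_mul (by positivity) (Nat.card_pos).ne', Finsupp.add_apply,
      Nat.Prime.factorization_pow Nat.prime_two, Finsupp.single_eq_same,
      Nat.factorization_eq_zero_of_not_dvd h8, add_zero]
  obtain ⟨n', b, y, hcard, -, -, hyR, hpr, hinv, hfix, hcomm, -⟩ :=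
    MinSimple.Dihedral.exists_dihedral B R hBsq hRp.isNilpotent (hYodd R hRY) hBN hBf
  have hn : n = n' := by
    rw [hBcard] at hcard
    exact Nat.pow_right_injective le_rfl hcard
  rw [hn]
  refine le_of_inverted (p := 3) (by norm_num) hr b y (fun j => ?_) hcomm hinv hfix
  have h4 := hpr j
  obtain ⟨k, hk'⟩ := hRp ⟨y j, hyR j⟩
  have h5 : orderOf (y j) ∣ 3 ^ k := orderOf_dvd_of_pow_eq_one (congrArg Subtype.val hk')
  exact (Nat.prime_dvd_prime_iff_eq h4 Nat.prime_three).mp (h4.dvd_of_dvd_pow h5)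

/-- The same for a homomorphism `φ : Γ →* M` whose image contains `S₃^n`; the 2-elements of the kernel are in
a normal 2-subgroup `Q ≤ ker φ`. -/
theorem le_of_range {Γ M : Type*} [Group Γ] [Finite Γ] [Group M] {m n : ℕ} (hr : PRankLE 3 m Γ)
    (φ : Γ →* M) (H : (Fin n → Equiv.Perm (Fin 3)) →* M) (hH : Function.Injective H)
    (hHφ : H.range ≤ φ.range) (Q : Subgroup Γ) [hQn : Q.Normal] (hQ : IsPGroup 2 Q) (hQk : Q ≤ φ.ker)
    (hk : ∀ x ∈ φ.ker, (∃ k, x ^ 2 ^ k = 1) → x ∈ Q) : n ≤ m := by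
  classical
  have h2 : Fact (Nat.Prime 2) := ⟨Nat.prime_two⟩
  have h3 : Fact (Nat.Prime 3) := ⟨Nat.prime_three⟩
  have hQ3 : (Nat.card Q).Coprime 3 := by
    obtain ⟨k, hk'⟩ := IsPGroup.iff_card.mp hQ
    rw [hk']
    exact Nat.Coprime.pow_left k (by norm_num)
  -- the preimage of the image of `H`
  set X : Subgroup Γ := H.range.comap φ with hX
  let e : (Fin n → Equiv.Perm (Fin 3)) ≃* H.range := MonoidHom.ofInjective hH
  let φ₁ : X →* H.range := (φ.comp X.subtype).codRestrict H.range fun x => x.2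
  let φ₂ : X →* (Fin n → Equiv.Perm (Fin 3)) := e.symm.toMonoidHom.comp φ₁
  have hker : ∀ x : X, x ∈ φ₂.ker ↔ φ (x : Γ) = 1 := by
    intro x
    rw [MonoidHom.mem_ker]
    change e.symm (φ₁ x) = 1 ↔ _
    rw [map_eq_one_iff e.symm e.symm.injective, Subtype.ext_iff]
    rfl
  have hsur : Function.Surjective φ₂ := by
    intro σ
    obtain ⟨g, hg⟩ := hHφ ⟨σ, rfl⟩
    refine ⟨⟨g, by rw [hX, mem_comap, hg]; exact ⟨σ, rfl⟩⟩, ?_⟩
    change e.symm (φ₁ _) = σ
    rw [MulEquiv.symm_apply_eq]
    apply Subtype.ext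
    exact hg
  have hQX : Q ≤ X := fun x hx => by
    rw [hX, mem_comap, MonoidHom.mem_ker.mp (hQk hx)]
    exact one_mem _
  set Q₁ : Subgroup X := Q.subgroupOf X with hQ₁
  have hQ₁n : Q₁.Normal := hQn.subgroupOf X
  have hQ₁k : Q₁ ≤ φ₂.ker := fun x hx => (hker x).2 (MonoidHom.mem_ker.mp (hQk (mem_subgroupOf.mp hx)))
  have hQ₁3 : (Nat.card Q₁).Coprime 3 := by
    have h4 : Nat.card Q₁ = Nat.card Q := Nat.card_congr (Subgroup.subgroupOfEquivOfLe hQX).toEquiv
    rw [h4]
    exact hQ3
  have hr₁ : PRankLE 3 m (X ⧸ Q₁) :=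
    Sec.Reduce.prankLE_quotient Q₁ hQ₁3 (Sec.Reduce.prankLE_of_injective X.subtype X.subtype_injective hr)
  let φ₃ : X ⧸ Q₁ →* (Fin n → Equiv.Perm (Fin 3)) := QuotientGroup.lift Q₁ φ₂ hQ₁k
  have hsur₃ : Function.Surjective φ₃ := by
    intro σ
    obtain ⟨x, hx⟩ := hsur σ
    exact ⟨QuotientGroup.mk x, hx⟩
  refine le_of_surj hr₁ φ₃ hsur₃ ?_
  -- the kernel has odd order
  rw [← Nat.not_even_iff_odd]
  intro he
  obtain ⟨x, hx⟩ := exists_prime_orderOf_dvd_card' (G := φ₃.ker) 2 (even_iff_two_dvd.1 he)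
  obtain ⟨y, hy⟩ := QuotientGroup.mk_surjective (x : X ⧸ Q₁)
  have h4 : (x : X ⧸ Q₁) ^ 2 = 1 := by
    have := pow_orderOf_eq_one x
    rw [hx] at this
    exact congrArg Subtype.val this
  have h5 : (x : X ⧸ Q₁) ≠ 1 := by
    intro h
    rw [Subtype.ext (a1 := x) (a2 := 1) h, orderOf_one] at hx
    norm_num at hx
  apply h5
  rw [← hy]
  rw [QuotientGroup.eq_one_iff]
  have h6 : y ^ 2 ∈ Q₁ := by
    rw [← QuotientGroup.eq_one_iff, QuotientGroup.mk_pow, hy]
    exact h4
  have h7 : φ (y : Γ) = 1 := by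
    rw [← hker]
    have h8 := x.2
    rw [← hy] at h8
    exact h8
  refine mem_subgroupOf.mpr (hk (y : Γ) h7 ?_)
  obtain ⟨k, hk'⟩ := hQ ⟨((y ^ 2 : X) : Γ), mem_subgroupOf.mp h6⟩
  refine ⟨k + 1, ?_⟩
  have h8 : ((y : Γ) ^ 2) ^ 2 ^ k = 1 := congrArg Subtype.val hk'
  rw [← pow_mul] at h8
  rw [pow_succ, mul_comm]
  exact h8

end Cfsg.Agent.Omega.SQT.RankAbs
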