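import Cfsg.Agent.Omega.SQT.Rank
import Cfsg.Agent.Omega.SQT.Multi
import Cfsg.Agent.Omega.NearFF.Min
import Cfsg.Agent.Omega.NOThreeL.RRed.TvFin

/-!
# The 3-rank of a 2-local group which acts on blocks (box R over `QK`)

* `rank_le_of_local` : if a subgroup `M ≥ S` induces `S₃^n` on `V`, then `n ≤ m_3(G)` (`Rank.rank_le_of_act` without
  `P` minimal: Frattini for `S ∩ ker`);
* `toSymC` : `S₃^c → Sym(Ω)`, `3 c ≤ |Ω|`;
* `Full.sum_le` : blocks of letters `Om b`: `∑ |Om b| / 3 ≤ m_3(G)`; `Full.sum_le_two` for strongly quasithin groups;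
* `card_le_two`, `om_lt_nine`, `om_lt_six` : at most two blocks, `|Om b| ≤ 8`, and `|Om b| ≤ 5` if there are two.
-/

set_option autoImplicit false
set_option linter.unusedSectionVars false

namespace Cfsg.Agent.Omega.SQT.RankR

open Subgroup Cfsg Cfsg.Agent.ZN
open Cfsg.Agent.Omega.SQT.Rank (PAct)
open Cfsg.Agent.Omega.SQT.Multi (three)
open Cfsg.Agent.Omega.NOThreeL.RRed.TvFin (Full)
open Cfsg.Agent.Omega.KL.TwoS (Rel Lett)
open scoped Pointwise

universe u v w

/-! ### The abstract step -/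

section act

variable {G : Type u} [Group G] [Finite G] {T : Type*} [Group T] {M V : Subgroup G} {Act : G → T → Prop}

/-- **If `M ≥ S` induces `S₃^n` on `V`, then `n ≤ m_3(G)`.** -/
theorem rank_le_of_local (S : Sylow 2 G) (hSM : (S : Subgroup G) ≤ M) (h : PAct M V Act) {n m : ℕ}
    (H : (Fin n → Equiv.Perm (Fin 3)) →* T) (hH : Function.Injective H) (hl : ∀ σ, ∃ g ∈ M, Act g (H σ))
    (hr : PRankLE 3 m G) : n ≤ m := by
  classical
  have h2 : Fact (Nat.Prime 2) := ⟨Nat.prime_two⟩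
  obtain ⟨φ, hφ⟩ := h.exists_hom
  have hφv : ∀ (g : h.X) (A : T), Act g A → φ g = A := fun g A hA => h.uniq g g.2.1 _ _ (hφ g) hA
  -- the kernel
  set K : Subgroup G := φ.ker.map h.X.subtype with hK
  have memK : ∀ g : G, g ∈ K ↔ g ∈ M ∧ Act g 1 := by
    intro g
    constructor
    · rintro ⟨x, hx, rfl⟩
      exact ⟨x.2.1, by rw [← MonoidHom.mem_ker.mp hx]; exact hφ x⟩
    · rintro ⟨hg, h1⟩
      exact ⟨⟨g, hg, 1, h1⟩, MonoidHom.mem_ker.mpr (hφv _ _ h1), rfl⟩
  have hKM : K ≤ M := fun g hg => ((memK g).1 hg).1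
  have key : ∀ g ∈ M, ∀ x ∈ K, g * x * g⁻¹ ∈ K := fun g hg x hx =>
    (memK _).2 ⟨M.mul_mem (M.mul_mem hg (hKM hx)) (M.inv_mem hg), h.conj g hg x (hKM hx) ((memK x).1 hx).2⟩
  -- Frattini in `M`
  let P : Sylow 2 M := S.subtype hSM
  let N : Subgroup M := K.subgroupOf M
  have hN : N.Normal := ⟨fun x hx y => mem_subgroupOf.mpr (key y y.2 x (mem_subgroupOf.mp hx))⟩
  have hF := NearFF.frattini_inf P N
  set T₀ : Subgroup G := (S : Subgroup G) ⊓ K with hT₀
  have hfr : ∀ g ∈ M, ∃ k ∈ K, k * g ∈ normalizer (T₀ : Set G) := by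
    intro g hg
    have h1 : (⟨g, hg⟩ : M) ∈ ((N ⊔ normalizer (((P : Subgroup M) ⊓ N : Subgroup M) : Set M) : Subgroup M) : Set M) := by
      rw [sup_comm, hF]
      trivial
    rw [normal_mul] at h1
    obtain ⟨k, hk, x, hx, e⟩ := h1
    refine ⟨(k : G)⁻¹, K.inv_mem (mem_subgroupOf.mp hk), ?_⟩
    have e2 : (k : G)⁻¹ * g = (x : G) := by
      have e3 : (k : G) * (x : G) = g := congrArg Subtype.val e
      rw [← e3]; group
    rw [e2, mem_normalizer_iff]
    intro y
    have hTM : T₀ ≤ M := inf_le_left.trans hSM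
    have hx' := mem_normalizer_iff.1 (show x ∈ normalizer (((P : Subgroup M) ⊓ N : Subgroup M) : Set M) from hx)
    have hmem : ∀ (y : G) (hy : y ∈ M), y ∈ T₀ ↔ (⟨y, hy⟩ : M) ∈ (P : Subgroup M) ⊓ N := by
      intro y hy
      constructor
      · intro h3
        exact ⟨h3.1, mem_subgroupOf.mpr h3.2⟩
      · intro h3
        exact ⟨h3.1, mem_subgroupOf.mp h3.2⟩
    constructor
    · intro hy
      have h4 := (hx' ⟨y, hTM hy⟩).1 ((hmem y (hTM hy)).1 hy)
      exact (hmem _ (M.mul_mem (M.mul_mem x.2 (hTM hy)) (M.inv_mem x.2))).2 h4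
    · intro hy
      have hyM : y ∈ M := by
        have h5 := M.mul_mem (M.mul_mem (M.inv_mem x.2) (hTM hy)) x.2
        have e4 : (x : G)⁻¹ * ((x : G) * y * (x : G)⁻¹) * (x : G) = y := by group
        rwa [e4] at h5
      exact (hmem y hyM).2 ((hx' ⟨y, hyM⟩).2 ((hmem _ (hTM hy)).1 hy))
  -- the group
  let Γ : Subgroup h.X := (normalizer (T₀ : Set G)).subgroupOf h.X
  let ψ : Γ →* T := φ.comp Γ.subtype
  have hψ : ∀ x : Γ, Act ((x : h.X) : G) (ψ x) := fun x => hφ x
  have memker : ∀ x : Γ, x ∈ ψ.ker ↔ ((x : h.X) : G) ∈ K := by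
    intro x
    rw [MonoidHom.mem_ker, memK]
    constructor
    · intro hx
      refine ⟨(x : h.X).2.1, ?_⟩
      rw [← hx]
      exact hψ x
    · intro hx
      exact hφv _ _ hx.2
  have hKX : K ≤ h.X := map_subtype_le _
  have hTX : T₀ ≤ h.X := inf_le_right.trans hKX
  let Q : Subgroup Γ := (T₀.subgroupOf h.X).subgroupOf Γ
  have memQ : ∀ x : Γ, x ∈ Q ↔ ((x : h.X) : G) ∈ T₀ := by
    intro x
    rw [mem_subgroupOf, mem_subgroupOf]
  have hQn : Q.Normal := by
    constructor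
    intro x hx y
    rw [memQ] at hx ⊢
    exact (mem_normalizer_iff.mp (mem_subgroupOf.mp y.2) _).mp hx
  have hQp : IsPGroup 2 Q := by
    intro x
    obtain ⟨k, hk⟩ := S.isPGroup' ⟨(((x : Γ) : h.X) : G), ((memQ _).1 x.2).1⟩
    have h1 : (((x : Γ) : h.X) : G) ^ 2 ^ k = 1 := congrArg Subtype.val hk
    exact ⟨k, Subtype.ext (Subtype.ext (Subtype.ext h1))⟩
  have hXinj : Function.Injective (h.X.subtype.comp Γ.subtype) :=
    h.X.subtype_injective.comp Γ.subtype_injective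
  refine RankAbs.le_of_range (m := m) (Sec.Reduce.prankLE_of_injective (h.X.subtype.comp Γ.subtype) hXinj hr)
    ψ H hH ?_ Q hQp ?_ ?_
  · rintro _ ⟨σ, rfl⟩
    obtain ⟨g, hg, hA⟩ := hl σ
    obtain ⟨k, hk, hkg⟩ := hfr g hg
    have hA' : Act (k * g) (H σ) := by
      have := h.mul k (hKM hk) g hg 1 (H σ) ((memK k).1 hk).2 hA
      rwa [one_mul] at this
    refine ⟨⟨⟨k * g, M.mul_mem (hKM hk) hg, _, hA'⟩, mem_subgroupOf.mpr hkg⟩, hφv _ _ hA'⟩
  · intro x hx
    exact (memker x).2 ((memQ x).1 hx).2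
  · intro x hx ⟨k, hk⟩
    rw [memQ]
    -- `x` normalises the Sylow group `T₀` of `K`
    have hxK := (memker x).1 hx
    have hxN : ((x : h.X) : G) ∈ normalizer (T₀ : Set G) := mem_subgroupOf.mp x.2
    have hk' : ((x : h.X) : G) ^ 2 ^ k = 1 := congrArg (fun y : Γ => ((y : h.X) : G)) hk
    have hz : IsPGroup 2 (zpowers ((x : h.X) : G)) := by
      rw [IsPGroup.iff_card, Nat.card_zpowers]
      obtain ⟨j, -, hj⟩ := (Nat.dvd_prime_pow Nat.prime_two).1 (orderOf_dvd_of_pow_eq_one hk')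
      exact ⟨j, hj⟩
    have hT₀p : IsPGroup 2 T₀ := S.isPGroup'.to_le inf_le_left
    have hsup : IsPGroup 2 (zpowers ((x : h.X) : G) ⊔ T₀ : Subgroup G) :=
      hz.to_sup_of_normal_right' hT₀p (zpowers_le.2 hxN)
    have hsK : zpowers ((x : h.X) : G) ⊔ T₀ ≤ K := sup_le (zpowers_le.2 hxK) inf_le_right
    -- it is conjugate in `M` into `S`
    obtain ⟨R, hR⟩ := (hsup.comap_of_injective M.subtype Subtype.coe_injective).exists_le_sylow
    obtain ⟨y, hy⟩ := MulAction.exists_smul_eq M R P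
    have hin : ∀ s ∈ (zpowers ((x : h.X) : G) ⊔ T₀ : Subgroup G), (y : G) * s * (y : G)⁻¹ ∈ T₀ := by
      intro s hs
      have hsM : s ∈ M := hKM (hsK hs)
      have h5 : y * ⟨s, hsM⟩ * y⁻¹ ∈ (P : Subgroup M) := by
        rw [← hy]
        exact Subgroup.smul_mem_pointwise_smul _ (MulAut.conj y) (R : Subgroup M) (hR (mem_subgroupOf.mpr hs))
      exact ⟨h5, key y y.2 s (hsK hs)⟩
    have hcard : Nat.card (zpowers ((x : h.X) : G) ⊔ T₀ : Subgroup G) ≤ Nat.card T₀ := by
      refine Nat.card_le_card_of_injective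
        (fun s : (zpowers ((x : h.X) : G) ⊔ T₀ : Subgroup G) => (⟨(y : G) * s * (y : G)⁻¹, hin s s.2⟩ : T₀)) ?_
      intro a b hab
      have := congrArg Subtype.val hab
      simpa using this
    have heq : T₀ = zpowers ((x : h.X) : G) ⊔ T₀ := eq_of_le_of_card_ge le_sup_right hcard
    rw [heq]
    exact mem_sup_left (mem_zpowers _)

end act

/-! ### `S₃^c` in symmetric groups -/

section emb

variable {Ω : Type*} [Fintype Ω]

/-- `c` disjoint triples of letters -/
noncomputable def tri {c : ℕ} (h : 3 * c ≤ Fintype.card Ω) : Fin c × Fin 3 ↪ Ω :=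
  (Function.Embedding.nonempty_of_card_le
    (by rw [Fintype.card_prod, Fintype.card_fin, Fintype.card_fin, mul_comm]; exact h)).some

/-- `S₃^c → Sym(Ω)`, `3 c ≤ |Ω|` -/
noncomputable def toSymC {c : ℕ} (h : 3 * c ≤ Fintype.card Ω) :
    (Fin c → Equiv.Perm (Fin 3)) →* Equiv.Perm Ω :=
  (Equiv.Perm.viaEmbeddingHom (tri h)).comp
      ((MulEquiv.toMonoidHom (Equiv.sigmaEquivProd (Fin c) (Fin 3)).permCongrHom).comp
        (Equiv.Perm.sigmaCongrRightHom (fun _ : Fin c => Fin 3)))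

theorem toSymC_injective {c : ℕ} (h : 3 * c ≤ Fintype.card Ω) : Function.Injective (toSymC h) := by
  refine (Equiv.Perm.viaEmbeddingHom_injective _).comp ?_
  exact (Equiv.sigmaEquivProd (Fin c) (Fin 3)).permCongrHom.injective.comp
    Equiv.Perm.sigmaCongrRightHom_injective

variable {I : Type v} [Fintype I] {Om : I → Type w} [∀ i, Fintype (Om i)]

/-- the index set of all triples -/
noncomputable def idx (Om : I → Type w) [∀ i, Fintype (Om i)] :
    (Σ b : I, Fin (Fintype.card (Om b) / 3)) ≃ Fin (∑ b, Fintype.card (Om b) / 3) :=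
  Fintype.equivFinOfCardEq (by rw [Fintype.card_sigma]; simp only [Fintype.card_fin])

/-- `S₃^n → ∏ Sym(Om b)`, `n = ∑ |Om b| / 3` -/
noncomputable def toPi (Om : I → Type w) [∀ i, Fintype (Om i)] :
    (Fin (∑ b, Fintype.card (Om b) / 3) → Equiv.Perm (Fin 3)) →* (∀ b, Equiv.Perm (Om b)) where
  toFun σ b := toSymC (Ω := Om b) (c := Fintype.card (Om b) / 3) (Nat.mul_div_le _ _) fun j => σ (idx Om ⟨b, j⟩)
  map_one' := by
    funext b
    exact map_one (toSymC (Ω := Om b) (Nat.mul_div_le _ _))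
  map_mul' σ τ := by
    funext b
    exact map_mul (toSymC (Ω := Om b) (Nat.mul_div_le _ _)) (fun j => σ (idx Om ⟨b, j⟩)) fun j => τ (idx Om ⟨b, j⟩)

theorem toPi_injective (Om : I → Type w) [∀ i, Fintype (Om i)] : Function.Injective (toPi Om) := by
  intro σ τ h
  funext i
  obtain ⟨⟨b, j⟩, rfl⟩ := (idx Om).surjective i
  have h1 : toSymC (Ω := Om b) (c := Fintype.card (Om b) / 3) (Nat.mul_div_le _ _) (fun j => σ (idx Om ⟨b, j⟩)) =
      toSymC (Ω := Om b) (c := Fintype.card (Om b) / 3) (Nat.mul_div_le _ _) (fun j => τ (idx Om ⟨b, j⟩)) :=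
    congrFun h b
  exact congrFun (toSymC_injective _ h1) j

end emb

/-! ### Blocks of letters -/

section blocks

variable {G : Type u} [Group G] {S M V : Subgroup G} {I : Type u} {N E : I → Subgroup G} {R₀ : Subgroup G}
  {Om : I → Type u} [∀ i, Fintype (Om i)] [∀ i, DecidableEq (Om i)] {phi : ∀ i, Finset (Om i) → G}

/-- the partial action on the letters -/
theorem pAct (F : Full S M V N E R₀ Om phi) :
    PAct M V (fun g (σ : ∀ b, Equiv.Perm (Om b)) => ∀ b, Rel (phi b) g (σ b)) where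
  one g hg hc := by
    intro b s hs
    have hv : phi b s ∈ V := F.sup ▸ (le_sup_of_le_left (le_iSup N b)) (((F.lett b).mem _).2 ⟨s, hs, rfl⟩)
    have e : (1 : Equiv.Perm (Om b)).toEmbedding = Function.Embedding.refl (Om b) := by
      ext x
      simp
    rw [Pi.one_apply, e, Finset.map_refl, ← mem_centralizer_iff.1 hc _ hv, mul_inv_cancel_right]
  mul g _ x _ A B hA hB b := (hA b).mul (hB b)
  inv g _ A hA b := (hA b).inv
  uniq g _ A B hA hB := by
    funext b
    exact (F.lett b).unique (F.three b) (hA b) (hB b)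
  conj g hg x _ hx := by
    intro b s hs
    obtain ⟨c, hc, -⟩ := F.perm g⁻¹ (M.inv_mem hg) b
    have hN : phi b s ∈ N b := ((F.lett b).mem _).2 ⟨s, hs, rfl⟩
    have h1 : g⁻¹ * phi b s * g ∈ N c := by
      rw [← hc]
      have := smul_mem_pointwise_smul (phi b s) (MulAut.conj g⁻¹) (N b) hN
      rwa [MulAut.smul_def, MulAut.conj_apply, inv_inv] at this
    have h2 : x ∈ centralizer (N c : Set G) := (F.lett c).cent_of_one (hx c)
    have h3 := mem_centralizer_iff.1 h2 _ h1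
    have e : (1 : Equiv.Perm (Om b)).toEmbedding = Function.Embedding.refl (Om b) := by
      ext x
      simp
    rw [Pi.one_apply, e, Finset.map_refl]
    calc g * x * g⁻¹ * phi b s * (g * x * g⁻¹)⁻¹ = g * (x * (g⁻¹ * phi b s * g)) * x⁻¹ * g⁻¹ := by group
      _ = phi b s := by rw [← h3]; group

variable [Fintype I] [DecidableEq I]

/-- every family of permutations of the letters is induced -/
theorem exists_act (F : Full S M V N E R₀ Om phi) (σ : ∀ b, Equiv.Perm (Om b)) :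
    ∃ g ∈ M, ∀ b, Rel (phi b) g (σ b) := by
  have h := pAct F
  let H : Subgroup (∀ b, Equiv.Perm (Om b)) :=
    { carrier := {σ | ∃ g ∈ M, ∀ b, Rel (phi b) g (σ b)}
      one_mem' := ⟨1, M.one_mem, h.one 1 M.one_mem (one_mem _)⟩
      mul_mem' := by
        rintro σ τ ⟨a, ha, h1⟩ ⟨b, hb, h2⟩
        exact ⟨a * b, M.mul_mem ha hb, h.mul a ha b hb _ _ h1 h2⟩
      inv_mem' := by
        rintro σ ⟨a, ha, h1⟩
        exact ⟨a⁻¹, M.inv_mem ha, h.inv a ha _ h1⟩ }
  refine Subgroup.pi_mem_of_mulSingle_mem (H := H) σ fun b => ?_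
  obtain ⟨g, hg, h1⟩ := (F.lett b).all (σ b)
  refine ⟨g, F.EL b hg, fun c => ?_⟩
  by_cases hc : c = b
  · subst hc
    rw [Pi.mulSingle_eq_same]
    exact h1
  · rw [Pi.mulSingle_eq_of_ne hc]
    intro s hs
    have h2 := F.EC b c (Ne.symm hc) hg
    have h3 : phi c s ∈ N c := ((F.lett c).mem _).2 ⟨s, hs, rfl⟩
    have e : (1 : Equiv.Perm (Om c)).toEmbedding = Function.Embedding.refl (Om c) := by
      ext x
      simp
    rw [e, Finset.map_refl, ← mem_centralizer_iff.1 h2 _ h3, mul_inv_cancel_right]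

/-- **`∑ |Om b| / 3 ≤ m_3(G)`.** -/
theorem sum_le [Finite G] {S : Sylow 2 G} (F : Full (S : Subgroup G) M V N E R₀ Om phi) {m : ℕ}
    (hr : PRankLE 3 m G) : ∑ b, Fintype.card (Om b) / 3 ≤ m :=
  rank_le_of_local S F.SL (pAct F) (toPi Om) (toPi_injective Om) (fun σ => exists_act F (toPi Om σ)) hr

variable [Finite G] {S : Sylow 2 G} (hq : Quasithin.StrQ G) (F : Full (S : Subgroup G) M V N E R₀ Om phi)
include hq F

theorem sum_le_two : ∑ b, Fintype.card (Om b) / 3 ≤ 2 := sum_le F (three hq)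

/-- at most two blocks -/
theorem card_le_two : Fintype.card I ≤ 2 := by
  have h1 : ∑ _b : I, 1 ≤ ∑ b, Fintype.card (Om b) / 3 := Finset.sum_le_sum fun b _ => by
    have := F.three b
    omega
  rw [Finset.sum_const, Finset.card_univ, smul_eq_mul, mul_one] at h1
  exact h1.trans (sum_le_two hq F)

/-- `|Om b| ≤ 8` (it is odd) -/
theorem om_le (b : I) : Fintype.card (Om b) ≤ 7 := by
  have h1 : Fintype.card (Om b) / 3 ≤ ∑ b, Fintype.card (Om b) / 3 :=
    Finset.single_le_sum (f := fun b => Fintype.card (Om b) / 3) (fun _ _ => Nat.zero_le _) (Finset.mem_univ b)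
  have h2 := sum_le_two hq F
  obtain ⟨k, hk⟩ := (F.lett b).odd
  omega

/-- if there are two blocks, both have at most `5` letters -/
theorem om_le_five {b c : I} (hbc : b ≠ c) : Fintype.card (Om b) ≤ 5 := by
  have h1 : ∑ x ∈ {b, c}, Fintype.card (Om x) / 3 ≤ ∑ b, Fintype.card (Om b) / 3 :=
    Finset.sum_le_sum_of_subset (Finset.subset_univ _)
  rw [Finset.sum_pair hbc] at h1
  have h2 := sum_le_two hq F
  have h3 := F.three c
  omega

end blocks

end Cfsg.Agent.Omega.SQT.RankR
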