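import Cfsg.Agent.Omega.Landed
import Cfsg.Agent.Omega.Node.MulXTwo
import Cfsg.Agent.Omega.EDel.CaseX
import Cfsg.Agent.Omega.SQT.CaseQ

/-!
# NO-3S, strongly quasithin case: the open inputs, everything which is landed being plugged (helper673)

* `NoW2` : `NoW QK` is needed for `k = 2` only;
* `SInQ` : the open inputs (`k = 2`, natural; `k ≤ 2`, `m = 2`, symmetric); **`SInQ.caseInQ : Landed → SInQ → CaseInQ`**.
-/

set_option autoImplicit false

namespace Cfsg.Agent.Omega.SQT.CaseQ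

open Subgroup Cfsg Cfsg.Agent.ZN
open Cfsg.Agent.Omega.Node.MulG Cfsg.Agent.Omega.Node.MulX
open Cfsg.Agent.Omega.Node.MultiOf
open Cfsg.Agent.Omega.Landed (Landed)
open Cfsg.Agent.Omega.SQT.Main (QK)
open Cfsg.Agent.Omega.SQT.CaseQ

universe u

/-- `NoW QK` for two blocks. -/
def NoW2 : Prop :=
  ∀ (G : Type u) [Group G] [Finite G], Quasithin.StrQ G → ∀ (S : Sylow 2 G) (P B ZJ : Subgroup G)
    (L W Z C A : Fin 2 → Subgroup G), MulL S P B ZJ L W Z C A 2 →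
      NLoc (KX B ZJ (zl (S : Subgroup G) P)) → ∀ (j : Fin 2) (Y : Subgroup G),
        MinSimple.MinParabolic.IsMinPar B Y → ChoiceSit.Syl B Y →
        Y ⊓ centralizer (o2 Y : Set G) ≤ o2 Y → (∀ l, l ≠ j → Y ≤ centralizer (Z l : Set G)) → ¬ o2 P ≤ o2 Y →
          Y ≤ centralizer (ZJ : Set G)

theorem noW_of (h : NoW2.{u}) : Node.MulXTwo.NoW QK.{u} := by
  intro G _ _ hq S P B ZJ k L W Z C A hk hM hN j Y h1 h2 h3 h4 h5
  have h6 := k_le hq hM
  obtain rfl : k = 2 := by omega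
  exact h G hq S P B ZJ L W Z C A hM hN j Y h1 h2 h3 h4 h5

theorem NoW2.of (h : Node.MulXTwo.NoW QK.{u}) : NoW2.{u} :=
  fun G _ _ hq S P B ZJ L W Z C A hM hN => h G hq S P B ZJ 2 L W Z C A le_rfl hM hN

/-- **The open inputs of NO-3S for `QK`.** -/
structure SInQ : Prop where
  /-- case (L), two natural `SL₂(2)`-modules -/
  noW : NoW2.{u}
  /-- case (L), (Om), two natural `SL₂(2)`-modules -/
  omTwo : OmX QK.{u} fun k q => k = 2 ∧ q = 2
  /-- case (L), (Om), two natural `SL₂(q)`-modules, `q ≥ 4` -/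
  omQ : OmX QK.{u} fun k q => k = 2 ∧ 4 ≤ q
  /-- case (L), (E), two natural `SL₂(q)`-modules, `q ≥ 4` -/
  eTwoQ : EX QK.{u} fun k q => k = 2 ∧ 4 ≤ q
  /-- case (L), (Om), one or two even-subset modules of `S₅` -/
  omS : OmSX QK.{u} fun k m => k ≤ 2 ∧ m = 2
  /-- case (L), (E), `S₅`, light vectors not 2-central -/
  light : Node.CaseLPEnds.ELX QK.{u}

/-- The case (L). -/
theorem SInQ.caseInQ (L : Landed.{u}) (I : SInQ.{u}) : CaseInQ.{u} where
  omTwo := I.omTwo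
  eTwo := Node.MulXTwo.eX_two L.mlk L.noInp (noW_of I.noW)
  omQ := I.omQ
  eTwoQ := I.eTwoQ
  omS := I.omS
  light := I.light
  eS := eSX_mono2 (fun _ _ _ h => Or.inl h.1.ge) (EDel.CaseX.eSX L.mlk)

end Cfsg.Agent.Omega.SQT.CaseQ
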