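import Cfsg.Agent.Omega.MainTree
import Cfsg.Agent.Omega.SQT.Multi

/-!
# Project SQT: the tree of open inputs

`MainTree.Tree K` (helper765) for `K = QK` (strongly quasithin groups) implies `Quasithin.SQT`.  `QFF` is the part
"case FF" with the reduced leaves of `SQT.Multi`.
-/

set_option autoImplicit false

namespace Cfsg.Agent.Omega.SQT.Tree

open Cfsg Cfsg.Agent.Omega.Frame
open Cfsg.Agent.Omega.SQT.Main (QK)

universe u

/-- **Project SQT from the tree.** -/
theorem sqt (L : MainTree.Landed.{u}) (T : MainTree.Tree QK.{u}) : Quasithin.SQT.{u} := by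
  intro G _ _ _ hna hK hc hr hq
  exact (T.evenLeaves L).evenHalfK G hna hK hc hr hq

/-- Case FF with the reduced leaves. -/
structure QFF : Prop where
  ff : FFThm.Stmt.{u}
  wr : Multi.Wr2.{u}
  symWr : Multi.SymWr2.{u}
  c : Multi.C2.{u}
  f4 : Multi.F42.{u}
  h1 : FrameFF.LeafH1 QK.{u}
  b : FrameExtra.NodeSympl QK.{u} → FrameFF.LeafB QK.{u}
  norm : FrameFF.NormStep QK.{u}
  a2 : FrameExtra.NodeSympl QK.{u} → FrameFF.LeafA2 QK.{u}
  a4 : FrameFF.LeafA4 QK.{u}

theorem QFF.ffIn (I : QFF.{u}) : MainTree.FFIn QK.{u} where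
  ff := I.ff
  wr := Multi.leafWr I.wr
  symWr := Multi.leafSymWr I.symWr
  c := Multi.leafC I.c
  f4 := Multi.leafF4 I.f4
  h1 := I.h1
  b := I.b
  norm := I.norm
  a2 := I.a2
  a4 := I.a4

end Cfsg.Agent.Omega.SQT.Tree
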