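import Cfsg.Agent.Omega.NOThreeL.RRed.WideTree
import Cfsg.Agent.Omega.SQT.NoThree
import Cfsg.Agent.Omega.SQT.Multi
import Cfsg.Agent.Omega.SQT.Main

/-!
# Project SQT, box R of NO-3L: `WideAll` over `QK` (helper949)

`QK` = `StrQ`: `m_p(G) ≤ 2` for all odd `p`.  A natural `SL₂(F)`-block contains a triple on which its group induces `S₃`,
so there are at most two blocks.

* `tri_nat`, `not_three` : no three natural blocks;
* `wLeftMany`, `wOneMany` : the sockets `WLeftMany`, `WOneMany` over `QK` are void.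
-/

set_option autoImplicit false

namespace Cfsg.Agent.Omega.SQT.WideQ

open Subgroup Cfsg Cfsg.Agent.Omega.Frame
open Cfsg.Agent.Omega.SQT.Main (QK)
open Cfsg.Agent.Omega.SQT.Multi (three)
open Cfsg.Agent.Omega.SQT.NoThree (Tri three_blocks)
open Cfsg.Agent.Omega.NOThreeL.RRed
open Cfsg.Agent.Omega.NOThreeL.RRed.WideTree Cfsg.Agent.Omega.NOThreeL.RRed.GlueSig

universe u

section tri

variable {G : Type u} [Group G] {S E N l : Subgroup G} {F : Type} [Field F] {e : G → Fin 2 → F}

theorem e_one (h : NatBlk S E N l F e) : e 1 = 0 := by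
  have h1 := h.mul 1 (one_mem _) 1 (one_mem _)
  rw [mul_one] at h1
  exact left_eq_add.1 h1

theorem e_inj (h : NatBlk S E N l F e) {v w : G} (hv : v ∈ N) (hw : w ∈ N) (he : e v = e w) : v = w := by
  have h1 := h.mul w hw w⁻¹ (inv_mem hw)
  rw [mul_inv_cancel, e_one h] at h1
  have h2 := h.mul v hv w⁻¹ (inv_mem hw)
  rw [he, ← h1] at h2
  exact mul_inv_eq_one.1 (h.inj _ (mul_mem hv (inv_mem hw)) h2)

/-- the three vectors -/
def vec (F : Type) [Field F] : Fin 3 → Fin 2 → F := ![![1, 0], ![0, 1], ![1, 1]]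

theorem vec_inj : Function.Injective (vec F) := by
  intro a b hab
  have h0 := congrFun hab 0
  have h1 := congrFun hab 1
  fin_cases a <;> fin_cases b <;> simp [vec] at h0 h1 ⊢

def mS (F : Type) [Field F] : Matrix.SpecialLinearGroup (Fin 2) F := ⟨!![1, 1; 0, 1], by simp [Matrix.det_fin_two_of]⟩
def mT (F : Type) [Field F] : Matrix.SpecialLinearGroup (Fin 2) F := ⟨!![1, 0; 1, 1], by simp [Matrix.det_fin_two_of]⟩

theorem mS_vec [CharP F 2] (a : Fin 3) : (mS F).1.mulVec (vec F a) = vec F (Equiv.swap 1 2 a) := by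
  have h2 : (1 : F) + 1 = 0 := CharTwo.add_self_eq_zero 1
  fin_cases a
  · have : (Equiv.swap (1 : Fin 3) 2) 0 = 0 := by decide
    ext i
    fin_cases i <;> simp [mS, vec, this, Matrix.mulVec, dotProduct, Fin.sum_univ_two]
  · ext i
    fin_cases i <;> simp [mS, vec, Matrix.mulVec, dotProduct, Fin.sum_univ_two]
  · ext i
    fin_cases i <;> simp [mS, vec, Matrix.mulVec, dotProduct, Fin.sum_univ_two, h2]

theorem mT_vec [CharP F 2] (a : Fin 3) : (mT F).1.mulVec (vec F a) = vec F (Equiv.swap 0 2 a) := by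
  have h2 : (1 : F) + 1 = 0 := CharTwo.add_self_eq_zero 1
  fin_cases a
  · ext i
    fin_cases i <;> simp [mT, vec, Matrix.mulVec, dotProduct, Fin.sum_univ_two]
  · have : (Equiv.swap (0 : Fin 3) 2) 1 = 1 := by decide
    ext i
    fin_cases i <;> simp [mT, vec, this, Matrix.mulVec, dotProduct, Fin.sum_univ_two]
  · ext i
    fin_cases i <;> simp [mT, vec, Matrix.mulVec, dotProduct, Fin.sum_univ_two, h2]

/-- **A natural block contains a triple.** -/
theorem tri_nat [CharP F 2] (h : NatBlk S E N l F e) (hn : E ≤ normalizer (N : Set G)) : ∃ d, Tri E N d := by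
  choose d hd using fun a => h.sur (vec F a)
  have key : ∀ (M : Matrix.SpecialLinearGroup (Fin 2) F) (σ : Equiv.Perm (Fin 3)),
      (∀ a, M.1.mulVec (vec F a) = vec F (σ a)) → ∃ g ∈ E, ∀ a, g * d a * g⁻¹ = d (σ a) := by
    intro M σ hM
    obtain ⟨g, hg, h1⟩ := h.full M
    refine ⟨g, hg, fun a => e_inj h ?_ (hd _).1 ?_⟩
    · exact (mem_normalizer_iff.1 (hn hg) _).1 (hd a).1
    · rw [h1 _ (hd a).1, (hd a).2, hM, (hd _).2]
  refine ⟨d, ?_, fun a => (hd a).1, key _ _ mS_vec, key _ _ mT_vec⟩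
  intro a b hab
  apply vec_inj (F := F)
  rw [← (hd a).2, ← (hd b).2, hab]

end tri

section nbs

variable {G : Type u} [Group G] {S : Subgroup G} {ι : Type u} {N E D l : ι → Subgroup G} {q : ι → ℕ}

/-- **`m_3(G) ≤ 2`: no three natural blocks.** -/
theorem not_three [Finite G] (hr : PRankLE 3 2 G) (h : NBs S N E D l q) (a b c : ι) (hab : a ≠ b) (hac : a ≠ c)
    (hbc : b ≠ c) : False := by
  have hT : ∀ b, ∃ d, Tri (D b) (N b) d := fun b => by
    obtain ⟨F, _, _, _, e, -, h1⟩ := h.nat b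
    exact tri_nat h1 ((h.DE b).trans (h.dec.EN b))
  choose d hd using hT
  refine three_blocks hr (fun i => D (![a, b, c] i)) (fun i => N (![a, b, c] i)) ?_
    (fun i => d (![a, b, c] i)) fun i => hd _
  intro i j hij
  refine (h.DE _).trans (h.dec.EC _ _ fun he => hij ?_)
  have hi : Function.Injective ![a, b, c] := by
    intro x y hxy
    fin_cases x <;> fin_cases y
    · rfl
    · exact absurd hxy hab
    · exact absurd hxy hac
    · exact absurd hxy hab.symm
    · rfl
    · exact absurd hxy hbc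
    · exact absurd hxy hac.symm
    · exact absurd hxy hbc.symm
    · rfl
  exact hi he

theorem card_le [Finite G] (hr : PRankLE 3 2 G) [Finite ι] (h : NBs S N E D l q) : Nat.card ι < 3 := by
  classical
  by_contra hcon
  have := Fintype.ofFinite ι
  rw [Nat.card_eq_fintype_card] at hcon
  obtain ⟨f⟩ := Function.Embedding.nonempty_of_card_le (α := Fin 3) (β := ι) (by rw [Fintype.card_fin]; omega)
  exact not_three hr h (f 0) (f 1) (f 2) (fun h1 => by simpa using f.injective h1)
    (fun h1 => by simpa using f.injective h1) fun h1 => by simpa using f.injective h1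

end nbs

variable {B : Fr.{u}}

/-- **`WLeftMany QK` is void.** -/
theorem wLeftMany : WLeftMany QK.{u} B := by
  intro G _ _ hK S _ _ _ ι _ W hCM hij _ κ _ N E D l q side hN _ hfit _ _ h3
  have hne : Nonempty κ := by
    by_contra hc
    rw [not_nonempty_iff] at hc
    obtain ⟨i, -, -⟩ := hij
    refine hCM.ne i ?_
    rw [hfit i, eq_bot_iff]
    exact iSup_le fun b => hc.elim b.1
  obtain ⟨a⟩ := hne
  obtain ⟨b, hb, -⟩ := h3 a a
  obtain ⟨c, hc, hc'⟩ := h3 a b
  exact (not_three (three hK) hN a b c hb.symm hc.symm hc'.symm).elim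

/-- **`WOneMany QK` is void.** -/
theorem wOneMany : WOneMany QK.{u} B := by
  intro G _ _ hK S _ _ _ _ ι _ N E D l q _ hN _ h3
  exact absurd (card_le (three hK) hN) (by omega)

end Cfsg.Agent.Omega.SQT.WideQ
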