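import Cfsg.Agent.Omega.IId.OneOf
import Cfsg.Agent.Omega.IId.CaseA
import Cfsg.Agent.Omega.IId.RankTwo
import Cfsg.Agent.Omega.SQT.Multi

/-!
# II.d, CASE 1, `q = 2`, in the strongly quasithin case

`noOne : NoOne QK` from CASE A (helper64) and CASE B for `m_3(G) ≤ 2` (helper323, helper304, helper110);
`wrMain2 : WrMain2 QK` (helper774, `IId/OneOf.lean`).
-/

set_option autoImplicit false

namespace Cfsg.Agent.Omega.SQT.WrMainTwo

open Subgroup Cfsg Cfsg.Agent.Omega.IId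
open Cfsg.Agent.Omega.SQT.Main (QK)
open Cfsg.Agent.Omega.IId.One

universe u

/-- There is no configuration `One`. -/
theorem noOne : NoOne QK.{u} := by
  intro G _ _ S hH T V₁ V₂ L₁ L₂ v₁ v₂ s _ _ _ h hnl
  by_cases hB : nc v₁ {v₂} ≤ centralizer (nc v₂ {v₁} : Set G)
  · exact h.caseA hnl fun x hx y hy => (mem_centralizer_iff.1 (hB hx) y hy).symm
  · exact RankTwo.false_of_rank h (SQT.Multi.three hH.cls) hB

/-- **CASE 1, `q = 2`.** -/
theorem wrMain2 : WrMain2 QK.{u} := IId.wrMain2 noOne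

end Cfsg.Agent.Omega.SQT.WrMainTwo
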