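import Cfsg.Agent.Omega.IId.Strq
import Cfsg.Agent.Omega.IId.SymMain

/-!
# II.d, natural factors against `S₅`, in the strongly quasithin case

`wrSymBig` : the case of more than two factors or `m' ≥ 3` is void; `wrSym` : `WrSym QK` from `SymWr2`, `NO3S.Two QK`
and CASE 1 (helper592, `IId/SymMain.lean`).
-/

set_option autoImplicit false

namespace Cfsg.Agent.Omega.SQT.WrSymTwo

open Subgroup Cfsg Cfsg.Agent.ZN Cfsg.Agent.Omega.IId Cfsg.Agent.Omega.MinPar
open Cfsg.Agent.Omega.SQT.Main (QK)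
open Cfsg.Agent.Omega.FrameFF (cv Free)
open Cfsg.Agent.Omega.FFThm

universe u

/-- more than two factors or `m' ≥ 3`: void -/
theorem wrSymBig : Sym.WrSymBig QK.{u} := by
  intro G _ _ S S' hH P P' hp F _ _ _ k m' M N hk hm hF hb
  have h1 := Strq.nat_le hH hp.star M
  have hf : cv (S' : Subgroup G) P' = ⊥ := free_of_sym N (by omega)
  have N' : SymK (S' : Subgroup G) P' (zl (S' : Subgroup G) P') (cv (S' : Subgroup G) P') 1 m' := by
    rw [hf]
    exact N
  obtain ⟨-, h2⟩ := Strq.isSym_le hH hp.star' le_rfl hm ⟨N'⟩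
  omega

/-- **`WrSym` for `QK`.** -/
theorem wrSym (hSW : SQT.Multi.SymWr2.{u}) (hTwo : NO3S.Two QK.{u}) (hMain : Sym.WrSymMain QK.{u}) :
    WrSym QK.{u} :=
  Sym.wrSym (SQT.Multi.leafSymWr hSW) wrSymBig hTwo hMain

end Cfsg.Agent.Omega.SQT.WrSymTwo
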